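/-! Data: the orbits of an element of order thirteen on the transpositions of Fi22 and what each generates. -/

set_option autoImplicit false

namespace Cfsg.Agent.Fus.M23U

/-- The element. -/
def xw : List Nat := [1, 3, 3, 0, 7, 1, 5, 2, 0, 8, 3, 4]

/-- A conjugating word for the second configuration. -/
def hw : List Nat := [6, 5, 4, 3, 7, 8, 4, 5, 3, 4, 0, 1, 2, 3, 7, 4, 5, 1, 2, 3, 4, 0, 1, 2, 3, 7, 8, 5, 3, 4, 1, 2, 3, 7, 6, 5, 4, 3, 2, 1, 0]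

/-- The points of the two small closed pieces. -/
def uList : List Nat := [0, 1, 2, 4, 9, 12, 13, 14, 17, 21, 28, 31, 33, 39, 45, 48, 50, 53, 54, 55, 61, 62, 63, 67, 68, 69, 70, 90, 92, 98, 99, 100, 106, 107, 108, 114, 115, 116, 118, 120, 125, 126, 130, 131, 133, 139, 153, 160, 168, 173, 175, 176, 178, 181, 183, 185, 186, 188, 191, 192, 204, 208, 212, 213, 214, 229, 236, 242, 245, 257, 259, 265, 272, 280, 281, 282, 283, 285, 294, 295, 297, 298, 302, 303, 305, 307, 308, 323, 324, 335, 371, 372, 376, 378, 379, 380, 385, 400, 430, 433, 434, 435, 439, 440, 452, 468, 473, 499, 506, 515, 521, 533, 536, 549, 558, 568, 573, 596, 618, 636, 637, 659, 684, 699, 711, 719, 734, 735, 736, 737, 775, 793, 796, 818, 838, 843, 906, 948, 980, 981, 1021, 1037, 1040, 1118, 1119, 1120, 1140, 1152, 1171, 1225, 1226, 1276, 1307, 1310, 1339, 1343, 1347, 1349, 1376, 1395, 1436, 1475, 1525, 1535, 1567, 1634,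 1647, 1658, 1679, 1717, 1722, 1734, 1791, 1806, 1823, 1831, 1851, 1871, 1901, 1929, 1930, 1932, 1958, 2006, 2029, 2154, 2160, 2221, 2238, 2252, 2260, 2265, 2353, 2373, 2376, 2398, 2410, 2415, 2439, 2462, 2472, 2559, 2571, 2590, 2605, 2645, 2664, 2786, 2805, 2859, 2867, 2899, 2909, 2980, 2990, 2997, 3015, 3016, 3034, 3047, 3053, 3131, 3150, 3170, 3177, 3200, 3233, 3328, 3364, 3365, 3403, 3418, 3422, 3489]

/-- Part 0 of the orbits. -/
def orbs0 : List (Nat × Nat × List (Nat × Nat) × List Nat) :=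
  [(0, 3, [], []),
   (1, 3, [], []),
   (2, 3, [], []),
   (3, 0, [(1, 0), (2, 1), (10, 0), (11, 1), (11, 8), (11, 10), (12, 2), (12, 9), (12, 11), (13, 3), (14, 3), (17, 15), (19, 15), (20, 16), (22, 12), (22, 18), (23, 5)], [24, 26, 25, 27, 28, 29, 21, 11]),
   (5, 0, [(1, 0), (10, 0), (11, 1), (11, 8), (11, 10), (12, 2), (12, 9), (12, 11), (13, 2), (13, 3), (16, 14), (18, 14), (19, 15), (21, 4), (22, 17)], [23, 25, 24, 10, 20, 12, 27, 26]),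
   (6, 0, [(1, 0), (4, 2), (5, 2), (5, 4), (6, 5), (8, 5), (8, 6), (9, 6), (10, 0), (10, 9), (11, 1), (12, 9), (15, 13), (17, 14), (19, 16), (20, 10), (22, 18)], [24, 21, 23, 28, 26, 25, 27, 29]),
   (11, 0, [(1, 0), (3, 0), (3, 2), (4, 1), (7, 5), (8, 7), (9, 8), (11, 9), (12, 2), (13, 4), (13, 10), (15, 6), (19, 17), (20, 18)], [21, 14, 16, 22, 26, 24, 25, 23]),
   (16, 0, [(3, 0), (4, 0), (5, 0), (6, 1), (7, 3), (8, 4), (10, 2), (10, 5), (10, 7), (11, 1), (12, 9), (13, 6), (14, 7), (17, 15), (18, 16), (20, 17), (22, 21), (23, 13), (24, 7), (25, 19)], [28, 26, 27, 29, 12, 30, 31, 32]),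
   (18, 0, [(1, 0), (2, 0), (3, 1), (3, 2), (4, 2), (6, 1), (6, 5), (8, 0), (9, 1), (9, 6), (13, 4), (14, 7), (17, 9), (18, 16), (19, 10), (20, 14), (21, 15), (22, 14)], [28, 29, 30, 24, 26, 25, 23, 27]),
   (19, 0, [(5, 1), (6, 2), (7, 0), (7, 3), (8, 0), (10, 2), (10, 3), (10, 9), (11, 7), (12, 3), (13, 8), (14, 9), (16, 10), (18, 15), (19, 17), (20, 15), (21, 18), (22, 17)], [23, 24, 25, 28, 26, 30, 27, 29]),
   (21, 3, [], []),
   (24, 0, [(2, 1), (3, 1), (6, 0), (6, 1), (7, 2), (7, 5), (8, 3), (8, 4), (9, 1), (9, 5), (13, 5), (15, 8), (20, 7), (21, 14), (22, 18)], [16, 17, 19, 27, 26, 23, 24, 25]),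
   (25, 0, [(5, 2), (8, 1), (8, 2), (8, 3), (9, 0), (9, 3), (10, 2), (10, 3), (11, 7), (12, 8), (14, 3), (14, 4), (18, 13), (19, 15), (20, 16)], [21, 22, 17, 27, 25, 24, 23, 26]),
   (27, 0, [(2, 0), (4, 0), (4, 2), (5, 3), (7, 5), (8, 4), (8, 7), (9, 5), (9, 8), (10, 6), (13, 3), (13, 4), (14, 2), (19, 15), (21, 16), (22, 20), (23, 21), (24, 17)], [26, 27, 25, 18, 28, 22, 29, 30]),
   (28, 3, [], []),
   (32, 0, [(5, 0), (5, 3), (7, 0), (7, 3), (7, 5), (8, 4), (9, 5), (9, 6), (14, 6), (14, 10), (15, 13), (17, 12), (20, 7)], [16, 18, 19, 22, 25, 24, 21, 23]),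
   (33, 3, [], []),
   (34, 0, [(3, 1), (5, 1), (7, 0), (8, 2), (8, 4), (8, 5), (9, 2), (9, 6), (10, 0), (10, 1), (10, 4), (11, 7), (14, 2), (16, 13), (19, 13), (21, 20), (22, 18), (23, 15), (24, 17), (24, 18)], [31, 30, 28, 29, 25, 26, 32, 27]),
   (35, 0, [(3, 0), (4, 0), (4, 1), (5, 0), (5, 2), (6, 2), (8, 0), (9, 0), (9, 1), (9, 6), (11, 2), (11, 6), (12, 2), (13, 8), (14, 7), (15, 5), (22, 17), (23, 16), (23, 19), (24, 20), (26, 25), (27, 18), (28, 21)], [32, 30, 31, 34, 35, 33, 6, 29]),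
   (36, 0, [(3, 0), (4, 0), (5, 1), (6, 2), (6, 3), (6, 4), (7, 1), (7, 3), (7, 4), (8, 4), (9, 3), (10, 1), (10, 8), (11, 4), (16, 13), (20, 14), (21, 15), (22, 15), (24, 17), (24, 18), (25, 23), (26, 19)], [34, 28, 30, 33, 27, 31, 29, 32]),
   (45, 3, [], []),
   (47, 0, [(2, 0), (2, 1), (3, 0), (5, 3), (7, 0), (7, 4), (9, 7), (10, 3), (14, 6), (14, 10), (16, 11), (16, 13), (17, 1), (18, 8), (19, 15), (20, 8)], [28, 27, 24, 23, 25, 21, 26, 22]),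
   (58, 0, [(2, 0), (2, 1), (4, 2), (7, 1), (7, 2), (8, 3), (8, 4), (9, 4), (10, 2), (13, 4), (14, 5), (16, 9), (19, 7), (21, 15)], [17, 18, 20, 25, 24, 22, 26, 23]),
   (60, 0, [(3, 2), (4, 0), (5, 0), (7, 3), (8, 2), (8, 4), (9, 1), (9, 2), (10, 1), (11, 4), (12, 0), (16, 10), (17, 14), (18, 11), (19, 14), (21, 13), (21, 15), (23, 20), (23, 22)], [24, 26, 25, 30, 31, 29, 28, 27]),
   (61, 3, [], []),
   (72, 2, [(4, 0), (5, 0), (6, 0), (6, 1), (6, 2), (7, 3), (8, 3), (8, 4), (9, 2), (10, 1), (11, 4), (11, 5), (12, 5), (12, 6), (13, 12), (14, 6), (14, 7), (15, 11), (16, 13), (17, 10), (19, 11), (20, 15), (23, 17), (24, 16), (25, 18), (27, 21), (28, 22), (30, 26), (31, 29), (33, 32)], [35, 37, 34, 40, 39, 41, 38, 42, 36]),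
   (73, 2, [(4, 1), (5, 0), (5, 2), (5, 4), (6, 3), (7, 4), (8, 5), (9, 6), (10, 9), (12, 2), (12, 10), (12, 11), (14, 3), (17, 13), (18, 15), (19, 17), (20, 16), (25, 22)], [26, 27, 28, 21, 23, 24, 11, 30, 29]),
   (74, 2, [(2, 1), (3, 0), (3, 2), (4, 0), (4, 1), (5, 0), (5, 1), (5, 2), (6, 1), (6, 2), (7, 2), (8, 0), (9, 8), (11, 4), (11, 10), (16, 7), (17, 12), (18, 2), (19, 4), (19, 8), (20, 14), (21, 8), (22, 17), (24, 13), (25, 18), (26, 15), (27, 23), (29, 28), (32, 30), (33, 31), (34, 12)], [40, 41, 42, 37, 38, 39, 43, 36, 35]),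
   (75, 2, [(2, 1), (3, 0), (3, 2), (4, 0), (4, 1), (4, 3), (5, 0), (5, 1), (5, 2), (9, 2), (9, 5), (10, 5), (11, 1), (11, 8), (11, 10), (12, 2), (12, 7), (15, 11), (16, 10), (17, 11), (18, 12), (19, 1), (20, 14), (21, 12), (24, 13), (25, 23), (27, 22), (28, 26), (29, 18), (32, 30), (34, 11), (35, 31), (36, 33)], [42, 45, 44, 37, 39, 41, 43, 40, 38]),
   (76, 1, [(1, 0), (2, 0), (2, 1), (4, 3), (5, 3), (7, 1), (8, 6), (10, 3), (10, 4), (11, 4), (12, 5), (13, 6), (14, 6), (14, 9), (15, 7), (19, 18), (21, 17), (24, 20), (25, 16), (26, 23), (27, 22)], [32, 33, 29, 28, 30, 31, 0, 12])]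

/-- Part 1 of the orbits. -/
def orbs1 : List (Nat × Nat × List (Nat × Nat) × List Nat) :=
  [(77, 2, [(1, 0), (4, 1), (4, 2), (4, 3), (5, 2), (6, 3), (7, 3), (8, 6), (8, 7), (9, 1), (9, 5), (9, 7), (10, 8), (11, 1), (11, 10), (12, 1), (12, 10), (16, 13), (17, 6), (20, 14), (24, 17), (25, 18), (26, 21), (27, 15), (28, 23), (29, 19), (30, 22)], [32, 33, 34, 38, 31, 37, 36, 35, 39]),
   (78, 2, [(1, 0), (2, 0), (2, 1), (3, 0), (3, 1), (4, 1), (4, 3), (5, 0), (5, 1), (5, 3), (5, 4), (6, 5), (9, 1), (9, 6), (10, 6), (10, 7), (11, 8), (14, 8), (15, 10), (16, 7), (16, 8), (18, 17), (20, 8), (21, 15), (22, 10), (26, 19), (28, 23), (29, 24), (30, 25), (31, 26), (32, 13), (34, 27), (36, 33), (37, 35)], [38, 39, 40, 42, 43, 41, 45, 46, 44]),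
   (79, 2, [(1, 0), (2, 0), (2, 1), (3, 0), (3, 1), (3, 2), (4, 1), (4, 2), (4, 3), (5, 0), (5, 1), (9, 4), (10, 6), (11, 7), (11, 9), (12, 1), (12, 4), (13, 6), (14, 3), (14, 7), (16, 1), (18, 13), (19, 5), (19, 17), (20, 8), (21, 15), (22, 6), (23, 14), (31, 28), (32, 27), (33, 24), (34, 25), (35, 30), (37, 36), (38, 26), (40, 39)], [45, 44, 47, 46, 42, 48, 43, 29, 41]),
   (80, 2, [(1, 0), (2, 0), (2, 1), (3, 0), (3, 1), (3, 2), (4, 1), (4, 3), (6, 4), (6, 5), (7, 0), (7, 4), (9, 2), (10, 1), (10, 3), (11, 5), (13, 11), (13, 12), (16, 5), (18, 13), (19, 6), (19, 17), (20, 15), (23, 3), (25, 5), (26, 22), (27, 14), (28, 21), (29, 24), (32, 31), (34, 30), (35, 33)], [42, 44, 43, 36, 39, 37, 40, 41, 38]),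
   (81, 2, [(1, 0), (2, 0), (2, 1), (4, 1), (4, 3), (5, 2), (6, 1), (6, 3), (7, 4), (8, 5), (8, 7), (9, 8), (10, 7), (10, 9), (12, 1), (13, 6), (14, 9), (14, 12), (15, 7), (16, 3), (17, 9), (23, 18), (24, 20), (26, 21), (28, 27), (29, 21), (30, 17), (31, 22), (32, 19), (33, 25)], [34, 35, 36, 40, 39, 42, 37, 41, 38]),
   (82, 2, [(2, 0), (4, 2), (5, 2), (5, 3), (7, 3), (7, 5), (8, 4), (8, 5), (9, 2), (9, 5), (10, 1), (10, 9), (12, 5), (13, 10), (14, 3), (15, 12), (17, 9), (17, 16), (19, 10), (22, 11), (22, 18), (25, 23), (26, 20), (27, 24), (28, 21)], [29, 31, 32, 30, 37, 33, 35, 34, 36]),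
   (83, 2, [(2, 0), (3, 1), (3, 2), (4, 0), (4, 2), (5, 0), (5, 1), (5, 4), (6, 0), (7, 3), (7, 5), (9, 0), (9, 2), (9, 8), (11, 2), (11, 4), (12, 11), (13, 4), (15, 5), (15, 8), (17, 11), (18, 10), (20, 14), (21, 16), (23, 8), (25, 19), (28, 22), (30, 18), (32, 26), (33, 24), (34, 31), (35, 29), (36, 27)], [42, 43, 45, 38, 40, 39, 44, 41, 37]),
   (84, 2, [(2, 0), (2, 1), (3, 0), (3, 1), (3, 2), (4, 0), (4, 1), (6, 4), (7, 0), (8, 0), (8, 1), (9, 1), (9, 3), (10, 2), (12, 6), (13, 11), (14, 12), (15, 2), (16, 5), (17, 4), (18, 13), (19, 7), (24, 21), (26, 23), (27, 22), (30, 25), (31, 29), (32, 22), (34, 20)], [37, 35, 36, 28, 40, 33, 41, 38, 39]),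
   (86, 0, [(1, 0), (2, 1), (3, 2), (4, 0), (5, 1), (6, 4), (7, 5), (8, 6), (8, 7), (10, 1), (11, 9), (13, 3), (14, 10), (17, 16), (18, 13), (19, 14), (20, 15), (24, 22), (24, 23), (25, 21)], [27, 28, 29, 30, 32, 31, 26, 16]),
   (133, 3, [], []),
   (156, 2, [(1, 0), (2, 1), (3, 0), (3, 2), (4, 3), (5, 0), (5, 2), (5, 4), (6, 1), (8, 0), (10, 9), (11, 8), (12, 7), (13, 3), (13, 8), (14, 10), (16, 7), (17, 5), (18, 2), (18, 6), (18, 10), (19, 8), (19, 15), (20, 12), (21, 3), (23, 20), (26, 22), (29, 27), (30, 24), (34, 25), (35, 28), (35, 33), (36, 31), (37, 32)], [45, 46, 43, 40, 42, 44, 39, 38, 41]),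
   (157, 1, [(4, 1), (5, 1), (5, 2), (6, 0), (6, 2), (6, 3), (6, 5), (7, 0), (13, 7), (14, 2), (15, 8), (16, 11), (17, 3), (18, 9), (20, 19)], [23, 24, 0, 27, 26, 21, 25, 22]),
   (158, 2, [(1, 0), (2, 0), (3, 0), (3, 1), (4, 0), (4, 1), (5, 0), (5, 2), (5, 3), (6, 1), (7, 2), (8, 6), (9, 6), (13, 7), (14, 7), (15, 8), (16, 8), (16, 10), (18, 9), (19, 10), (20, 6), (20, 8), (21, 8), (21, 17), (22, 3), (22, 21), (25, 24), (28, 27), (30, 19), (31, 29), (32, 23), (34, 26), (35, 32), (37, 36), (38, 33)], [40, 42, 44, 47, 43, 46, 45, 39, 41]),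
   (160, 3, [], []),
   (161, 2, [(2, 0), (3, 0), (3, 1), (4, 1), (4, 2), (5, 0), (5, 2), (5, 3), (6, 0), (6, 1), (11, 4), (11, 6), (11, 8), (12, 2), (13, 12), (14, 1), (15, 8), (16, 7), (17, 8), (17, 9), (18, 16), (20, 10), (21, 9), (21, 19), (22, 19), (23, 7), (26, 25), (29, 24), (31, 30), (33, 27), (33, 32), (36, 28), (37, 34)], [42, 43, 45, 38, 40, 35, 41, 39, 44]),
   (162, 2, [(1, 0), (2, 0), (2, 1), (4, 2), (4, 3), (5, 3), (5, 4), (6, 2), (7, 3), (9, 8), (10, 5), (10, 9), (11, 9), (12, 0), (13, 4), (15, 4), (16, 3), (16, 7), (17, 7), (17, 9), (17, 13), (17, 14), (18, 4), (19, 9), (23, 21), (25, 20), (26, 24), (29, 22), (31, 27), (32, 28), (33, 30), (35, 24), (36, 34)], [40, 44, 41, 43, 42, 45, 37, 38, 39]),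
   (163, 2, [(2, 0), (2, 1), (4, 0), (4, 2), (4, 3), (5, 0), (6, 0), (6, 2), (7, 0), (7, 1), (8, 1), (9, 2), (10, 3), (12, 3), (12, 5), (12, 8), (13, 1), (15, 14), (16, 6), (19, 9), (24, 19), (25, 22), (26, 17), (27, 23), (28, 20), (29, 21), (30, 18), (31, 17), (32, 16)], [36, 33, 34, 39, 35, 38, 37, 40, 41]),
   (164, 2, [(2, 0), (3, 0), (3, 1), (3, 2), (4, 2), (4, 3), (5, 3), (6, 1), (6, 4), (7, 2), (8, 3), (9, 5), (10, 2), (10, 8), (13, 6), (14, 11), (16, 7), (17, 15), (18, 13), (20, 10), (21, 19), (22, 11), (23, 12), (25, 5), (28, 26), (29, 27), (31, 24)], [32, 34, 35, 30, 36, 33, 37, 38, 39]),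
   (165, 2, [(4, 0), (5, 0), (5, 1), (6, 0), (6, 1), (6, 2), (7, 0), (7, 1), (7, 2), (7, 3), (8, 3), (8, 4), (9, 4), (9, 5), (11, 5), (12, 5), (12, 6), (13, 11), (16, 15), (17, 8), (18, 12), (20, 3), (21, 17), (23, 21), (26, 19), (27, 22), (28, 25), (29, 24), (30, 14), (31, 26), (34, 32), (35, 33), (36, 31)], [38, 40, 37, 43, 41, 45, 42, 44, 39]),
   (194, 2, [(2, 0), (2, 1), (3, 1), (3, 2), (4, 0), (4, 3), (5, 3), (6, 2), (7, 0), (8, 4), (9, 0), (9, 4), (11, 5), (12, 8), (13, 1), (13, 5), (14, 4), (15, 6), (15, 13), (16, 5), (17, 12), (19, 14), (22, 21), (25, 20), (28, 26), (30, 23), (31, 18), (32, 29), (33, 27), (34, 24)], [37, 38, 39, 36, 42, 35, 41, 40, 29]),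
   (195, 2, [(2, 0), (2, 1), (3, 0), (3, 1), (4, 1), (4, 2), (5, 2), (6, 2), (8, 2), (9, 5), (9, 7), (9, 8), (10, 3), (11, 0), (12, 5), (15, 2), (15, 4), (16, 14), (17, 13), (18, 11), (19, 15), (22, 20), (23, 21), (25, 7), (26, 25), (27, 9), (28, 24), (31, 29), (32, 30), (33, 25)], [41, 42, 40, 36, 37, 38, 35, 39, 34]),
   (196, 2, [(3, 0), (3, 1), (3, 2), (4, 1), (5, 0), (5, 2), (5, 4), (6, 0), (6, 1), (9, 7), (10, 7), (11, 6), (11, 8), (12, 9), (13, 5), (15, 7), (15, 9), (16, 6), (16, 11), (17, 14), (18, 7), (18, 8), (18, 12), (19, 7), (20, 13), (21, 3), (27, 22), (30, 29), (31, 23), (32, 24), (34, 28), (35, 25), (37, 26), (38, 33)], [41, 44, 45, 40, 43, 46, 42, 36, 39]),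
   (197, 2, [(1, 0), (2, 0), (2, 1), (3, 0), (4, 0), (4, 1), (4, 3), (5, 1), (6, 4), (8, 7), (9, 0), (11, 2), (11, 7), (12, 3), (12, 8), (13, 9), (14, 3), (15, 9), (16, 4), (16, 9), (17, 15), (18, 14), (19, 8), (23, 20), (26, 25), (27, 17), (28, 24), (29, 24), (31, 22), (33, 32), (34, 30), (35, 21)], [37, 38, 36, 42, 41, 43, 39, 40, 44]),
   (198, 2, [(3, 1), (4, 0), (4, 1), (4, 2), (5, 1), (5, 2), (6, 3), (8, 4), (10, 7), (10, 8), (11, 2), (11, 9), (12, 2), (12, 3), (12, 9), (12, 10), (14, 2), (14, 11), (15, 5), (16, 13), (17, 16), (18, 11), (19, 8), (23, 22), (25, 21), (26, 24), (27, 15), (28, 14), (29, 20), (32, 31), (33, 30), (35, 34)], [36, 38, 40, 37, 44, 39, 42, 41, 43]),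
   (199, 1, [(1, 0), (2, 1), (3, 2), (7, 0), (8, 1), (8, 2), (9, 0), (9, 2), (14, 7), (15, 8), (16, 2), (17, 3), (18, 13), (19, 18), (20, 4)], [24, 26, 25, 11, 27, 23, 22, 21]),
   (216, 1, [(2, 0), (3, 1), (6, 4), (7, 2), (8, 6), (9, 5), (10, 5), (10, 6), (13, 6), (14, 7), (17, 16), (19, 15), (21, 18), (22, 20)], [0, 2, 24, 23, 1, 12, 26, 25]),
   (219, 2, [(1, 0), (2, 1), (3, 0), (4, 1), (4, 3), (5, 0), (5, 2), (5, 4), (6, 1), (6, 3), (9, 8), (13, 6), (14, 3), (14, 7), (15, 10), (16, 3), (16, 12), (17, 6), (18, 6), (18, 8), (19, 12), (20, 6), (20, 7), (21, 3), (23, 17), (28, 22), (29, 27), (30, 24), (31, 26), (32, 25), (34, 24), (35, 26), (36, 33)], [40, 44, 42, 39, 41, 45, 38, 37, 43]),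
   (220, 2, [(2, 0), (2, 1), (3, 0), (4, 0), (4, 1), (5, 1), (5, 2), (6, 0), (6, 2), (7, 1), (7, 3), (8, 3), (8, 6), (9, 7), (10, 1), (11, 2), (11, 3), (12, 3), (16, 7), (17, 13), (19, 15), (20, 14), (22, 8), (26, 25), (27, 18), (28, 21), (29, 8), (30, 23), (31, 28), (32, 24), (34, 33)], [37, 38, 40, 36, 39, 35, 41, 43, 42]),
   (246, 2, [(2, 1), (3, 0), (3, 2), (4, 0), (4, 2), (5, 2), (8, 6), (9, 0), (10, 1), (10, 4), (11, 2), (11, 7), (12, 1), (12, 3), (12, 8), (13, 9), (14, 6), (16, 5), (16, 9), (17, 7), (18, 12), (19, 15), (24, 21), (25, 19), (26, 20), (27, 23), (29, 25), (30, 22), (31, 28), (33, 32)], [35, 38, 37, 39, 34, 40, 36, 41, 42]),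
   (247, 2, [(1, 0), (3, 0), (3, 2), (4, 0), (4, 1), (4, 2), (5, 1), (5, 2), (5, 4), (6, 2), (7, 5), (10, 1), (11, 2), (11, 8), (11, 10), (12, 1), (12, 3), (14, 1), (15, 6), (15, 13), (17, 6), (20, 17), (21, 7), (24, 16), (25, 19), (27, 23), (28, 23), (29, 22), (30, 26), (31, 18), (34, 32), (35, 33)], [36, 37, 40, 44, 38, 43, 39, 41, 42])]

/-- Part 2 of the orbits. -/
def orbs2 : List (Nat × Nat × List (Nat × Nat) × List Nat) :=
  [(248, 2, [(1, 0), (3, 0), (3, 2), (4, 0), (4, 1), (4, 3), (5, 1), (6, 5), (7, 3), (7, 6), (8, 0), (8, 1), (10, 2), (10, 3), (11, 3), (11, 7), (13, 5), (13, 10), (14, 11), (15, 11), (16, 12), (17, 12), (19, 18), (21, 20), (26, 22), (29, 24), (30, 23), (31, 25), (32, 25), (33, 28), (34, 27)], [42, 40, 43, 35, 41, 36, 37, 38, 39]),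
   (249, 2, [(2, 0), (3, 0), (3, 2), (4, 1), (5, 3), (6, 4), (6, 5), (7, 3), (7, 5), (8, 3), (8, 7), (9, 5), (10, 7), (11, 0), (11, 7), (11, 8), (11, 9), (12, 2), (12, 9), (16, 14), (24, 13), (25, 17), (26, 20), (27, 23), (28, 18), (29, 15), (30, 19), (31, 21), (32, 22)], [34, 37, 40, 35, 36, 33, 38, 39, 41]),
   (276, 2, [(2, 0), (2, 1), (3, 0), (3, 2), (5, 0), (5, 1), (6, 0), (7, 1), (10, 1), (10, 8), (11, 3), (11, 6), (12, 1), (12, 4), (12, 5), (12, 9), (13, 3), (14, 3), (15, 6), (17, 16), (20, 17), (22, 12), (25, 21), (26, 19), (27, 23), (29, 18), (30, 27), (31, 28), (32, 24)], [37, 36, 33, 34, 39, 35, 40, 41, 38]),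
   (277, 2, [(1, 0), (2, 0), (2, 1), (3, 1), (3, 2), (4, 0), (4, 2), (5, 0), (5, 3), (8, 3), (10, 6), (11, 2), (11, 7), (12, 0), (12, 3), (13, 3), (14, 13), (15, 4), (16, 4), (17, 5), (17, 10), (18, 9), (20, 4), (21, 15), (23, 22), (25, 19), (26, 17), (28, 24), (30, 27), (32, 18), (33, 31), (34, 29), (36, 35)], [40, 41, 42, 43, 45, 44, 37, 38, 39]),
   (279, 2, [(1, 0), (2, 1), (4, 0), (4, 1), (4, 2), (5, 3), (6, 4), (7, 5), (8, 1), (8, 2), (9, 3), (9, 6), (10, 4), (10, 6), (12, 3), (13, 10), (14, 9), (15, 3), (16, 7), (18, 7), (20, 9), (22, 17), (23, 18), (25, 19), (27, 21), (29, 26), (30, 28), (31, 24)], [34, 35, 36, 32, 39, 33, 38, 37, 40]),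
   (332, 2, [(1, 0), (3, 0), (3, 2), (4, 0), (5, 0), (5, 4), (6, 1), (6, 2), (7, 0), (7, 4), (8, 4), (10, 4), (11, 5), (12, 0), (12, 2), (13, 5), (13, 9), (14, 4), (15, 4), (16, 10), (17, 1), (18, 9), (20, 5), (21, 11), (23, 22), (25, 19), (28, 16), (29, 18), (30, 26), (32, 27), (33, 31), (34, 24), (36, 35)], [45, 41, 39, 42, 38, 43, 40, 37, 44]),
   (334, 2, [(1, 0), (2, 0), (2, 1), (3, 0), (3, 2), (4, 0), (4, 1), (4, 2), (5, 1), (6, 0), (6, 4), (8, 4), (8, 5), (9, 0), (11, 7), (12, 2), (13, 9), (15, 6), (15, 10), (16, 15), (17, 8), (18, 5), (19, 14), (21, 6), (24, 22), (26, 23), (27, 20), (30, 28), (34, 29), (35, 25), (36, 31), (36, 32)], [41, 43, 42, 39, 40, 38, 44, 33, 37]),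
   (336, 2, [(2, 1), (3, 0), (3, 2), (4, 3), (5, 1), (7, 0), (8, 1), (9, 2), (10, 2), (11, 6), (11, 10), (12, 6), (13, 5), (14, 2), (15, 6), (16, 7), (17, 15), (18, 8), (19, 9), (23, 20), (24, 7), (26, 21), (28, 27), (29, 22)], [33, 30, 31, 25, 35, 28, 34, 32, 36]),
   (337, 2, [(2, 0), (3, 0), (3, 1), (3, 2), (4, 0), (4, 1), (4, 3), (6, 1), (7, 2), (7, 5), (8, 3), (10, 5), (12, 9), (14, 12), (15, 7), (16, 7), (18, 7), (19, 8), (19, 13), (20, 10), (21, 11), (22, 17), (23, 12), (24, 22), (27, 25), (28, 26), (30, 29), (31, 29)], [32, 33, 35, 38, 39, 40, 34, 36, 37]),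
   (338, 2, [(3, 1), (3, 2), (4, 0), (4, 2), (5, 1), (5, 3), (6, 1), (9, 1), (11, 1), (11, 3), (12, 2), (14, 9), (15, 1), (15, 10), (15, 13), (15, 14), (16, 3), (16, 10), (17, 2), (17, 14), (18, 4), (20, 5), (21, 3), (22, 7), (26, 24), (27, 23), (29, 25), (30, 28), (32, 19), (33, 31)], [39, 42, 38, 34, 40, 36, 37, 35, 41]),
   (339, 1, [(2, 1), (3, 2), (4, 3), (6, 2), (7, 0), (7, 1), (7, 3), (8, 1), (8, 4), (9, 1), (9, 2), (10, 2), (11, 5), (11, 6), (13, 3), (17, 13), (20, 14), (22, 16), (23, 15), (24, 19), (26, 21), (27, 25)], [28, 31, 34, 18, 29, 33, 32, 30]),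
   (340, 2, [(2, 1), (3, 0), (3, 2), (4, 1), (4, 3), (5, 0), (5, 4), (6, 1), (6, 5), (7, 2), (10, 0), (10, 9), (11, 1), (12, 3), (12, 5), (12, 9), (12, 11), (15, 5), (16, 14), (17, 10), (17, 13), (18, 2), (19, 7), (23, 20), (25, 22), (26, 23), (27, 21), (28, 18), (30, 24), (32, 31), (34, 33), (35, 29)], [40, 36, 37, 41, 39, 44, 38, 43, 42]),
   (341, 1, [(1, 0), (2, 1), (5, 0), (6, 1), (7, 2), (7, 3), (8, 4), (9, 5), (9, 8), (10, 2), (10, 4), (10, 9), (11, 2), (11, 4), (14, 3), (18, 15), (19, 16), (20, 17), (22, 20), (25, 13), (26, 24), (27, 21)], [28, 30, 23, 34, 29, 33, 32, 31]),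
   (342, 2, [(1, 0), (2, 0), (3, 1), (4, 2), (4, 3), (5, 1), (5, 3), (5, 4), (8, 0), (9, 1), (9, 7), (10, 9), (11, 0), (12, 0), (12, 7), (12, 11), (13, 12), (15, 9), (17, 7), (17, 14), (18, 16), (19, 6), (20, 15), (22, 21), (25, 23), (30, 24), (32, 28), (33, 31), (34, 29), (35, 26)], [39, 42, 41, 27, 36, 22, 40, 38, 37]),
   (343, 2, [(1, 0), (2, 0), (2, 1), (3, 1), (3, 2), (4, 3), (5, 4), (6, 4), (8, 0), (8, 6), (11, 6), (11, 9), (12, 10), (13, 11), (14, 11), (15, 4), (16, 8), (16, 12), (17, 5), (18, 9), (18, 15), (19, 13), (20, 5), (22, 7), (25, 21), (28, 27), (29, 17), (31, 30), (32, 26), (33, 23), (34, 24)], [41, 38, 40, 35, 43, 36, 42, 37, 39]),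
   (345, 2, [(2, 0), (2, 1), (3, 1), (4, 2), (5, 0), (5, 4), (6, 1), (7, 1), (9, 3), (9, 8), (10, 1), (10, 3), (10, 8), (12, 4), (12, 5), (12, 10), (17, 15), (19, 16), (21, 5), (22, 18), (23, 14), (24, 21), (26, 13), (27, 25), (28, 20)], [35, 29, 30, 36, 33, 37, 34, 32, 31]),
   (346, 2, [(2, 0), (3, 0), (3, 1), (3, 2), (4, 0), (4, 1), (4, 3), (5, 0), (5, 1), (11, 8), (12, 0), (12, 2), (14, 11), (15, 5), (15, 9), (16, 11), (17, 15), (18, 2), (18, 13), (19, 6), (19, 12), (20, 8), (20, 9), (21, 19), (26, 23), (27, 24), (30, 10), (31, 22), (32, 29), (33, 28), (34, 18), (36, 35)], [44, 41, 40, 42, 39, 37, 25, 38, 43]),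
   (348, 2, [(3, 2), (4, 0), (4, 1), (5, 1), (5, 4), (7, 5), (8, 4), (9, 4), (9, 7), (10, 3), (10, 5), (10, 6), (11, 6), (14, 9), (15, 10), (18, 13), (19, 16), (20, 6), (21, 17), (22, 6), (23, 7), (24, 17), (25, 8), (27, 26)], [30, 33, 35, 28, 34, 31, 36, 32, 29]),
   (349, 2, [(1, 0), (3, 0), (3, 2), (4, 0), (4, 1), (5, 0), (5, 1), (5, 2), (6, 0), (7, 1), (7, 3), (8, 0), (8, 2), (9, 4), (12, 3), (12, 5), (13, 11), (14, 7), (15, 12), (16, 11), (16, 14), (18, 7), (19, 17), (26, 23), (27, 20), (28, 24), (30, 17), (31, 21), (31, 29), (33, 22), (34, 32), (35, 25)], [40, 42, 44, 41, 38, 43, 39, 37, 36]),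
   (350, 2, [(2, 0), (2, 1), (3, 1), (5, 0), (5, 1), (5, 3), (6, 1), (6, 2), (7, 2), (8, 7), (9, 4), (9, 8), (10, 9), (11, 3), (13, 3), (14, 12), (15, 8), (18, 10), (22, 16), (23, 20), (24, 19), (25, 21), (26, 12), (27, 17), (28, 25)], [31, 33, 34, 29, 37, 30, 36, 35, 32]),
   (353, 2, [(2, 1), (3, 0), (3, 1), (3, 2), (4, 1), (6, 0), (6, 4), (7, 1), (9, 2), (13, 12), (14, 13), (15, 4), (15, 8), (15, 12), (16, 10), (17, 5), (17, 16), (20, 18), (21, 15), (25, 22), (27, 24), (28, 26)], [31, 23, 29, 34, 19, 32, 33, 30, 18]),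
   (354, 2, [(1, 0), (4, 3), (5, 4), (6, 0), (7, 0), (7, 1), (7, 6), (8, 5), (8, 7), (9, 8), (10, 7), (10, 9), (11, 4), (11, 8), (13, 8), (14, 7), (15, 8), (16, 12), (17, 6), (20, 19), (21, 9), (23, 22), (24, 19), (25, 21), (28, 16), (29, 18), (30, 27), (31, 26)], [37, 38, 39, 32, 35, 34, 33, 40, 36]),
   (355, 2, [(1, 0), (3, 0), (6, 5), (8, 2), (8, 3), (8, 5), (8, 7), (9, 3), (9, 6), (10, 4), (10, 5), (11, 1), (11, 5), (11, 6), (12, 6), (14, 13), (17, 15), (21, 18), (22, 16), (23, 19), (25, 20), (26, 17), (27, 22), (28, 24)], [31, 33, 35, 29, 34, 32, 36, 30, 18]),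
   (356, 2, [(1, 0), (2, 0), (3, 2), (4, 1), (4, 3), (5, 0), (5, 2), (6, 1), (6, 3), (6, 5), (7, 4), (10, 4), (10, 6), (11, 9), (12, 2), (12, 8), (13, 3), (14, 4), (17, 12), (18, 14), (19, 15), (22, 12), (24, 23), (25, 16), (28, 21), (29, 20), (30, 20), (31, 26), (32, 27)], [41, 38, 39, 36, 40, 37, 34, 35, 33]),
   (357, 2, [(2, 0), (2, 1), (3, 0), (3, 1), (4, 0), (4, 1), (4, 2), (4, 3), (5, 2), (5, 3), (7, 3), (9, 5), (10, 0), (10, 3), (12, 1), (12, 8), (12, 9), (12, 10), (13, 3), (14, 9), (17, 12), (19, 15), (20, 8), (21, 6), (22, 18), (27, 24), (28, 26), (30, 23), (31, 23), (34, 29), (35, 33), (36, 16), (37, 25)], [42, 45, 43, 40, 41, 38, 44, 32, 39]),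
   (358, 1, [(2, 0), (2, 1), (3, 0), (3, 1), (4, 0), (4, 2), (4, 3), (5, 1), (5, 2), (6, 0), (14, 7), (15, 5), (17, 11), (18, 12), (20, 12), (21, 16), (22, 13), (22, 19)], [25, 29, 23, 28, 27, 30, 24, 26]),
   (390, 2, [(1, 0), (2, 0), (2, 1), (3, 1), (3, 2), (4, 1), (4, 3), (5, 0), (5, 2), (5, 4), (6, 1), (6, 4), (6, 5), (7, 0), (7, 2), (10, 9), (12, 8), (16, 14), (18, 17), (19, 14), (20, 9), (20, 15), (20, 17), (21, 19), (22, 16), (23, 11), (24, 10), (25, 10), (26, 9), (27, 13), (32, 31), (34, 28), (35, 29), (37, 36), (38, 33), (39, 30)], [43, 46, 47, 40, 42, 41, 44, 45, 48]),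
   (391, 2, [(2, 0), (2, 1), (3, 1), (4, 2), (4, 3), (5, 0), (5, 1), (6, 0), (7, 1), (7, 3), (8, 1), (8, 3), (9, 0), (9, 2), (9, 3), (10, 3), (11, 3), (12, 5), (15, 2), (15, 13), (17, 14), (18, 6), (19, 7), (25, 22), (26, 20), (28, 21), (29, 12), (30, 23), (31, 27), (32, 24), (34, 33), (35, 16)], [40, 37, 38, 43, 39, 41, 36, 44, 42]),
   (392, 2, [(1, 0), (2, 0), (2, 1), (3, 1), (3, 2), (4, 2), (4, 3), (6, 5), (8, 7), (10, 6), (11, 7), (11, 10), (12, 5), (13, 7), (14, 10), (14, 11), (15, 7), (16, 12), (17, 6), (18, 16), (19, 10), (20, 14), (21, 18), (26, 14), (27, 23), (28, 22), (30, 23), (31, 25), (32, 24), (33, 29)], [42, 38, 39, 34, 36, 35, 41, 37, 40]),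
   (394, 2, [(1, 0), (2, 0), (2, 1), (3, 0), (3, 1), (3, 2), (4, 0), (4, 3), (10, 0), (10, 7), (11, 8), (11, 9), (12, 9), (12, 10), (16, 4), (16, 14), (17, 9), (19, 11), (22, 13), (23, 15), (24, 10), (25, 18), (27, 21), (28, 26), (29, 20), (30, 28)], [31, 32, 34, 35, 37, 38, 33, 19, 36])]

/-- Part 3 of the orbits. -/
def orbs3 : List (Nat × Nat × List (Nat × Nat) × List Nat) :=
  [(395, 2, [(1, 0), (2, 0), (2, 1), (4, 2), (6, 1), (6, 3), (7, 5), (8, 7), (9, 4), (10, 3), (11, 0), (12, 1), (13, 3), (14, 5), (15, 3), (16, 7), (16, 10), (19, 14), (21, 20), (22, 17), (23, 5), (24, 6), (25, 18), (29, 27)], [32, 33, 34, 26, 31, 28, 35, 30, 36]),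
   (396, 2, [(1, 0), (2, 0), (2, 1), (3, 1), (4, 0), (4, 1), (5, 2), (6, 5), (7, 3), (8, 4), (10, 0), (10, 9), (11, 1), (11, 3), (12, 3), (12, 5), (13, 4), (13, 5), (14, 5), (16, 8), (16, 15), (17, 15), (23, 18), (24, 22), (25, 19), (28, 20), (29, 21), (30, 26), (31, 27), (32, 28), (34, 33)], [36, 35, 37, 39, 38, 40, 42, 41, 43]),
   (397, 2, [(1, 0), (2, 0), (3, 0), (3, 2), (4, 0), (4, 1), (5, 0), (8, 0), (8, 6), (9, 1), (12, 3), (12, 11), (13, 9), (14, 3), (15, 4), (15, 7), (15, 10), (16, 11), (17, 1), (17, 10), (18, 5), (19, 8), (24, 21), (25, 23), (27, 20), (29, 26), (30, 12), (31, 19), (32, 28), (33, 22), (34, 10)], [41, 37, 42, 39, 43, 40, 36, 35, 38]),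
   (398, 2, [(1, 0), (2, 0), (2, 1), (3, 0), (3, 1), (3, 2), (4, 2), (6, 5), (8, 5), (10, 5), (10, 8), (11, 0), (11, 6), (12, 4), (12, 7), (13, 2), (13, 12), (14, 1), (15, 3), (15, 9), (16, 2), (16, 8), (18, 4), (19, 17), (21, 14), (26, 23), (28, 22), (29, 24), (31, 25), (32, 20), (33, 30), (35, 27), (36, 34)], [39, 41, 44, 40, 45, 43, 38, 42, 37]),
   (399, 2, [(1, 0), (2, 1), (3, 2), (4, 2), (5, 2), (6, 0), (6, 3), (7, 4), (10, 4), (11, 1), (11, 5), (11, 10), (12, 6), (12, 10), (13, 4), (13, 9), (14, 9), (15, 9), (16, 5), (21, 17), (23, 19), (24, 14), (25, 16), (25, 20), (28, 22), (29, 26), (30, 18), (31, 27)], [32, 33, 36, 39, 40, 37, 35, 38, 34]),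
   (400, 3, [], []),
   (401, 2, [(1, 0), (3, 0), (3, 2), (4, 0), (4, 1), (5, 4), (8, 3), (9, 4), (9, 6), (9, 7), (10, 8), (12, 4), (12, 8), (14, 6), (14, 11), (14, 12), (14, 13), (16, 3), (16, 11), (16, 12), (16, 13), (16, 15), (17, 2), (23, 18), (27, 22), (28, 19), (29, 21), (30, 24), (31, 26), (33, 20), (34, 25), (35, 32)], [41, 38, 42, 39, 44, 40, 37, 36, 43]),
   (404, 2, [(1, 0), (2, 0), (3, 0), (4, 0), (4, 1), (4, 2), (6, 2), (7, 0), (7, 3), (9, 1), (9, 5), (9, 8), (10, 2), (11, 5), (11, 7), (12, 6), (14, 8), (15, 4), (15, 5), (16, 8), (18, 11), (22, 17), (23, 20), (24, 13), (26, 21), (28, 27), (29, 19), (30, 25), (32, 11), (33, 31)], [37, 36, 35, 39, 34, 40, 42, 41, 38]),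
   (405, 2, [(1, 0), (3, 0), (3, 2), (4, 0), (4, 1), (4, 3), (5, 0), (5, 1), (5, 2), (6, 2), (6, 3), (7, 0), (7, 2), (7, 4), (11, 5), (13, 3), (13, 4), (15, 5), (17, 10), (17, 14), (19, 18), (20, 7), (20, 12), (21, 16), (23, 20), (26, 22), (28, 27), (29, 25), (30, 24), (32, 21), (34, 31), (35, 33)], [36, 37, 38, 39, 43, 41, 40, 44, 42]),
   (406, 2, [(1, 0), (2, 0), (2, 1), (3, 1), (3, 2), (4, 0), (4, 2), (4, 3), (7, 0), (7, 3), (8, 2), (9, 4), (10, 7), (11, 0), (11, 5), (11, 10), (12, 2), (12, 6), (13, 2), (15, 3), (16, 14), (17, 10), (18, 13), (19, 6), (20, 6), (21, 5), (25, 9), (26, 22), (29, 28), (31, 27), (32, 30), (34, 24), (35, 23), (37, 33), (38, 36)], [46, 42, 43, 44, 39, 45, 41, 47, 40]),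
   (408, 2, [(1, 0), (2, 0), (3, 0), (3, 1), (3, 2), (4, 3), (5, 2), (6, 5), (7, 5), (8, 3), (12, 1), (12, 2), (12, 3), (13, 6), (13, 11), (13, 12), (14, 6), (14, 11), (15, 12), (16, 5), (17, 7), (21, 20), (22, 4), (26, 19), (28, 18), (29, 27), (30, 23), (32, 25), (33, 31)], [41, 39, 36, 40, 24, 38, 37, 34, 35]),
   (409, 2, [(1, 0), (2, 0), (2, 1), (3, 0), (4, 2), (4, 3), (5, 4), (10, 2), (10, 5), (10, 9), (11, 8), (12, 0), (12, 4), (13, 4), (13, 5), (13, 6), (13, 10), (14, 7), (15, 11), (17, 6), (18, 5), (18, 14), (19, 8), (26, 22), (27, 25), (28, 20), (29, 23), (31, 30), (32, 16), (33, 24), (34, 21)], [43, 39, 38, 40, 41, 37, 35, 36, 42]),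
   (410, 2, [(1, 0), (2, 0), (2, 1), (3, 2), (4, 2), (5, 0), (5, 2), (6, 3), (7, 1), (8, 5), (10, 2), (10, 3), (11, 5), (11, 8), (12, 4), (13, 4), (13, 8), (13, 9), (14, 1), (15, 5), (15, 11), (17, 16), (18, 15), (19, 9), (22, 9), (28, 20), (29, 27), (30, 23), (31, 25), (33, 21), (34, 32), (35, 24), (36, 26)], [44, 39, 38, 45, 41, 40, 37, 42, 43]),
   (411, 2, [(2, 0), (4, 0), (4, 2), (4, 3), (5, 1), (6, 0), (6, 2), (8, 0), (8, 4), (9, 4), (10, 5), (11, 0), (11, 6), (12, 3), (13, 5), (15, 7), (16, 12), (17, 14), (20, 14), (20, 16), (23, 14), (24, 18), (25, 17), (26, 22), (27, 19), (28, 21), (30, 29)], [36, 33, 35, 37, 32, 38, 34, 39, 31]),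
   (412, 2, [(2, 0), (2, 1), (3, 0), (3, 1), (4, 1), (4, 2), (5, 2), (5, 3), (5, 4), (7, 0), (9, 6), (10, 0), (10, 7), (11, 4), (11, 5), (11, 8), (12, 6), (14, 7), (14, 8), (15, 2), (16, 8), (17, 15), (18, 9), (19, 9), (20, 13), (24, 23), (27, 23), (28, 22), (29, 25), (31, 21), (33, 32), (34, 30), (36, 26), (37, 35)], [39, 41, 40, 43, 46, 44, 42, 38, 45]),
   (414, 2, [(1, 0), (2, 0), (3, 0), (3, 1), (4, 0), (5, 1), (6, 0), (6, 2), (7, 1), (10, 1), (10, 2), (11, 3), (12, 4), (12, 5), (12, 10), (13, 2), (14, 1), (17, 3), (18, 16), (20, 8), (24, 19), (25, 21), (26, 23), (27, 15), (28, 3), (29, 24), (30, 22)], [35, 33, 34, 38, 32, 39, 36, 37, 31]),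
   (415, 2, [(1, 0), (2, 0), (4, 0), (6, 0), (7, 0), (7, 2), (8, 0), (8, 4), (9, 1), (10, 3), (11, 2), (11, 4), (12, 3), (12, 5), (12, 7), (13, 12), (14, 4), (20, 17), (21, 15), (21, 18), (24, 16), (24, 22), (25, 19), (27, 23), (29, 28)], [36, 35, 31, 34, 33, 30, 26, 37, 32]),
   (416, 2, [(2, 0), (2, 1), (3, 0), (3, 1), (5, 1), (6, 4), (7, 5), (8, 5), (8, 6), (9, 6), (10, 4), (10, 7), (11, 0), (11, 8), (13, 10), (16, 9), (17, 15), (18, 7), (19, 8), (21, 9), (21, 14), (22, 20), (23, 21), (26, 24), (27, 25), (29, 28)], [30, 31, 32, 34, 38, 36, 35, 37, 33]),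
   (417, 2, [(2, 0), (3, 1), (4, 0), (4, 2), (5, 1), (7, 5), (9, 7), (10, 0), (11, 7), (12, 1), (12, 3), (12, 8), (13, 5), (13, 6), (14, 5), (14, 7), (15, 1), (15, 13), (18, 13), (19, 16), (22, 17), (25, 20), (26, 21), (27, 23), (28, 24), (29, 10), (30, 27)], [34, 35, 37, 31, 33, 32, 36, 38, 39]),
   (419, 2, [(1, 0), (2, 0), (2, 1), (3, 0), (3, 2), (4, 0), (4, 1), (4, 3), (5, 2), (5, 4), (6, 5), (7, 6), (11, 7), (11, 8), (12, 0), (12, 2), (16, 4), (17, 8), (19, 12), (20, 14), (21, 17), (23, 13), (24, 15), (27, 22), (28, 10), (29, 26), (30, 21), (32, 25), (33, 18)], [36, 34, 35, 37, 39, 31, 41, 40, 38]),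
   (420, 2, [(2, 0), (3, 0), (3, 1), (4, 0), (4, 1), (5, 1), (6, 2), (8, 5), (10, 0), (10, 6), (10, 7), (11, 0), (11, 7), (12, 1), (12, 2), (12, 8), (14, 6), (15, 7), (16, 8), (17, 6), (17, 13), (18, 10), (19, 8), (21, 20), (24, 22), (26, 25), (27, 23), (28, 13), (31, 30), (32, 29), (34, 28), (35, 33)], [37, 38, 40, 36, 41, 39, 44, 42, 43]),
   (424, 2, [(1, 0), (2, 0), (2, 1), (3, 1), (4, 2), (5, 3), (6, 0), (6, 4), (7, 3), (7, 5), (9, 6), (12, 6), (12, 9), (13, 9), (14, 8), (14, 11), (15, 5), (16, 9), (17, 3), (18, 14), (20, 16), (22, 17), (23, 21), (26, 19), (26, 24), (29, 25), (30, 28), (31, 27)], [32, 33, 34, 38, 36, 37, 39, 35, 40]),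
   (442, 2, [(2, 0), (3, 0), (3, 1), (4, 3), (5, 4), (6, 3), (6, 5), (7, 6), (8, 0), (9, 4), (9, 6), (10, 9), (11, 0), (11, 10), (12, 8), (12, 11), (13, 11), (14, 12), (15, 5), (16, 6), (16, 10), (23, 11), (24, 17), (25, 21), (26, 19), (28, 20), (30, 29), (31, 22), (32, 27), (33, 18)], [35, 37, 38, 34, 42, 36, 39, 41, 40]),
   (443, 2, [(1, 0), (2, 0), (3, 0), (3, 1), (3, 2), (7, 2), (7, 5), (8, 2), (8, 3), (8, 6), (9, 7), (10, 8), (10, 9), (11, 9), (12, 3), (12, 10), (14, 12), (14, 13), (15, 1), (15, 11), (16, 8), (17, 9), (20, 15), (24, 19), (26, 22), (28, 23), (29, 21), (30, 27), (31, 18), (33, 32), (34, 25)], [36, 37, 38, 43, 41, 39, 42, 35, 40]),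
   (447, 2, [(1, 0), (2, 0), (2, 1), (3, 0), (3, 1), (4, 1), (5, 0), (8, 0), (8, 5), (8, 6), (10, 9), (12, 3), (13, 3), (13, 11), (14, 4), (14, 12), (16, 9), (16, 15), (17, 4), (17, 14), (18, 5), (19, 2), (20, 7), (23, 21), (24, 22), (27, 25), (28, 26), (29, 27), (30, 23), (33, 32), (34, 31)], [42, 41, 40, 39, 35, 38, 36, 43, 37]),
   (448, 2, [(2, 0), (3, 0), (4, 0), (4, 2), (5, 1), (5, 2), (6, 2), (8, 3), (8, 6), (9, 4), (10, 5), (11, 0), (12, 10), (13, 5), (14, 4), (15, 2), (16, 11), (17, 8), (18, 6), (20, 5), (22, 6), (23, 7), (26, 19), (26, 21), (27, 24), (28, 22), (30, 25), (31, 29)], [32, 33, 34, 37, 38, 35, 39, 40, 36]),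
   (449, 2, [(1, 0), (2, 1), (3, 0), (3, 2), (4, 0), (4, 1), (4, 3), (6, 3), (6, 4), (8, 5), (8, 6), (9, 6), (10, 7), (11, 1), (13, 3), (13, 8), (15, 1), (15, 12), (18, 10), (22, 14), (23, 7), (24, 16), (25, 19), (27, 21), (29, 28), (30, 20), (31, 26)], [32, 34, 35, 39, 37, 38, 33, 17, 36]),
   (450, 2, [(2, 0), (3, 0), (4, 0), (4, 1), (4, 2), (5, 1), (5, 2), (6, 1), (6, 2), (9, 4), (10, 7), (10, 8), (11, 2), (12, 6), (12, 8), (13, 3), (13, 4), (14, 10), (14, 11), (15, 13), (18, 7), (18, 17), (19, 16), (20, 3), (23, 22), (28, 25), (29, 24), (30, 27), (31, 26), (32, 21), (36, 33)], [40, 41, 39, 37, 42, 35, 43, 34, 38]),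
   (451, 2, [(3, 0), (4, 0), (4, 1), (5, 0), (5, 1), (6, 0), (6, 2), (8, 2), (10, 4), (11, 6), (12, 6), (13, 5), (13, 11), (14, 5), (14, 8), (15, 10), (15, 12), (17, 9), (17, 10), (19, 16), (21, 18), (23, 20), (27, 25), (28, 24), (28, 26), (30, 29), (31, 24), (32, 17)], [40, 35, 38, 33, 39, 34, 36, 22, 37]),
   (452, 3, [], [])]

/-- Part 4 of the orbits. -/
def orbs4 : List (Nat × Nat × List (Nat × Nat) × List Nat) :=
  [(453, 2, [(1, 0), (2, 0), (2, 1), (3, 0), (4, 1), (4, 2), (4, 3), (5, 0), (6, 1), (7, 2), (8, 0), (9, 1), (10, 2), (10, 5), (11, 10), (14, 10), (16, 8), (16, 9), (17, 9), (17, 12), (17, 15), (18, 12), (19, 10), (23, 20), (24, 21), (25, 22), (27, 13), (31, 26), (32, 28), (33, 29), (34, 30), (35, 33)], [36, 37, 38, 41, 43, 42, 44, 40, 39]),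
   (455, 2, [(2, 0), (3, 0), (3, 1), (4, 2), (5, 0), (6, 1), (7, 2), (7, 5), (8, 2), (8, 5), (9, 7), (12, 4), (13, 11), (14, 11), (17, 3), (18, 4), (19, 5), (20, 13), (21, 5), (23, 16), (24, 22), (25, 15), (26, 24)], [27, 28, 29, 30, 34, 32, 35, 33, 31]),
   (456, 2, [(1, 0), (2, 1), (3, 0), (3, 2), (4, 0), (4, 1), (5, 0), (5, 1), (5, 2), (6, 0), (6, 2), (7, 3), (9, 5), (11, 8), (12, 6), (12, 7), (12, 9), (13, 5), (14, 7), (16, 9), (17, 3), (18, 3), (19, 8), (20, 15), (22, 13), (23, 18), (24, 21), (30, 28), (31, 26), (32, 29), (33, 25), (34, 27), (37, 35)], [36, 38, 39, 44, 41, 43, 40, 42, 45]),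
   (457, 2, [(2, 0), (2, 1), (3, 0), (4, 0), (4, 1), (5, 3), (6, 2), (7, 3), (8, 4), (9, 5), (10, 6), (11, 9), (13, 9), (13, 10), (14, 4), (14, 6), (14, 12), (15, 5), (16, 7), (17, 10), (18, 14), (21, 19), (22, 20), (23, 21), (24, 13), (27, 26), (30, 25), (31, 28), (32, 29)], [34, 35, 36, 39, 41, 38, 33, 40, 37]),
   (458, 2, [(1, 0), (5, 4), (7, 1), (7, 5), (8, 3), (8, 6), (9, 3), (9, 4), (9, 7), (10, 5), (11, 0), (11, 1), (11, 9), (12, 0), (12, 7), (14, 13), (17, 16), (20, 18), (22, 21), (23, 19), (24, 21), (25, 15), (26, 6), (27, 8)], [29, 30, 31, 34, 36, 32, 35, 28, 33]),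
   (460, 2, [(2, 0), (3, 1), (4, 0), (4, 1), (4, 2), (6, 0), (6, 1), (7, 3), (8, 2), (9, 2), (9, 6), (9, 7), (11, 4), (12, 5), (13, 6), (14, 7), (17, 8), (19, 7), (22, 18), (23, 20), (25, 21), (26, 15), (27, 25), (28, 26), (29, 18), (30, 24)], [35, 36, 37, 31, 16, 33, 38, 32, 34]),
   (462, 2, [(1, 0), (2, 0), (3, 1), (3, 2), (4, 2), (4, 3), (5, 3), (6, 4), (7, 5), (8, 7), (9, 8), (10, 4), (10, 9), (11, 9), (12, 2), (12, 6), (14, 13), (15, 9), (16, 12), (17, 6), (22, 19), (23, 20), (24, 15), (25, 21), (27, 18), (28, 19), (29, 26), (31, 13), (32, 30)], [33, 34, 36, 35, 40, 38, 39, 41, 37]),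
   (463, 2, [(1, 0), (2, 0), (3, 2), (4, 0), (4, 1), (5, 0), (6, 1), (8, 4), (9, 0), (9, 6), (10, 5), (10, 9), (11, 2), (12, 4), (13, 5), (13, 10), (14, 7), (16, 7), (17, 9), (18, 12), (19, 16), (23, 22), (26, 25), (27, 21), (28, 15), (29, 18), (30, 24), (31, 20), (32, 19)], [39, 41, 36, 35, 37, 33, 34, 38, 40]),
   (466, 2, [(2, 0), (3, 0), (3, 1), (4, 1), (4, 2), (6, 0), (6, 4), (7, 0), (8, 1), (9, 2), (9, 6), (12, 2), (12, 3), (12, 10), (13, 5), (14, 8), (15, 13), (16, 8), (18, 8), (20, 1), (20, 17), (21, 2), (22, 3), (23, 13), (26, 19), (29, 28), (30, 24), (31, 27), (33, 25)], [32, 34, 35, 41, 38, 40, 37, 39, 36]),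
   (467, 2, [(1, 0), (2, 0), (2, 1), (3, 1), (3, 2), (4, 0), (4, 2), (4, 3), (5, 3), (5, 4), (6, 5), (7, 1), (9, 0), (9, 8), (10, 3), (10, 8), (11, 2), (13, 8), (15, 8), (16, 10), (16, 15), (18, 7), (18, 9), (18, 17), (20, 14), (23, 19), (30, 21), (31, 24), (32, 22), (33, 26), (34, 28), (35, 29), (36, 27), (37, 24), (38, 25)], [47, 44, 43, 46, 45, 40, 41, 39, 42]),
   (468, 3, [], []),
   (470, 1, [(3, 0), (5, 2), (6, 0), (6, 3), (7, 0), (7, 1), (7, 4), (8, 2), (10, 5), (10, 7), (12, 4), (12, 6), (13, 5), (13, 11), (14, 8), (15, 11), (16, 9), (17, 12), (20, 17), (24, 18), (25, 19), (26, 23), (27, 16), (28, 21), (29, 19), (30, 22)], [37, 36, 34, 33, 38, 35, 31, 32]),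
   (472, 2, [(2, 1), (3, 0), (4, 0), (4, 1), (5, 2), (8, 0), (8, 2), (9, 1), (9, 5), (10, 2), (10, 3), (11, 2), (12, 7), (13, 6), (14, 6), (15, 13), (17, 8), (18, 16), (19, 9), (20, 17), (24, 16), (25, 14), (26, 21), (27, 18), (28, 23), (29, 22)], [34, 30, 32, 36, 31, 38, 33, 37, 35]),
   (474, 2, [(1, 0), (2, 0), (3, 1), (3, 2), (4, 1), (5, 2), (6, 0), (6, 3), (7, 1), (8, 2), (9, 3), (9, 8), (10, 4), (11, 3), (12, 7), (13, 11), (14, 9), (15, 4), (15, 8), (16, 10), (16, 11), (17, 14), (18, 9), (22, 19), (23, 21), (25, 22), (27, 26), (28, 24), (29, 20), (32, 30), (34, 31), (35, 33)], [36, 37, 38, 43, 44, 42, 41, 39, 40]),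
   (480, 2, [(1, 0), (2, 1), (3, 2), (4, 3), (5, 0), (5, 1), (6, 1), (7, 6), (8, 0), (9, 3), (9, 5), (10, 1), (10, 9), (11, 2), (12, 3), (13, 5), (13, 9), (14, 10), (15, 11), (16, 7), (17, 2), (18, 6), (19, 2), (20, 10), (22, 21), (28, 25), (29, 24), (30, 26), (31, 27), (33, 4), (34, 32), (35, 23)], [39, 40, 41, 42, 37, 44, 38, 36, 43]),
   (482, 2, [(1, 0), (2, 0), (2, 1), (3, 1), (4, 2), (5, 3), (6, 1), (7, 2), (8, 6), (10, 2), (10, 8), (12, 0), (13, 11), (14, 4), (15, 12), (16, 2), (16, 5), (16, 11), (17, 6), (19, 12), (20, 13), (20, 18), (21, 7), (23, 9), (26, 22), (26, 25), (29, 27), (31, 24), (32, 30), (33, 28)], [41, 38, 39, 35, 42, 36, 40, 34, 37]),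
   (483, 2, [(1, 0), (2, 0), (2, 1), (3, 2), (4, 0), (4, 2), (4, 3), (5, 0), (5, 1), (5, 3), (5, 4), (6, 0), (8, 1), (8, 6), (10, 3), (10, 8), (11, 9), (14, 13), (15, 8), (17, 9), (18, 13), (20, 13), (21, 3), (21, 18), (22, 19), (24, 9), (26, 16), (28, 23), (30, 25), (32, 31), (33, 22), (34, 29), (36, 27), (37, 36), (38, 35)], [42, 44, 47, 39, 46, 40, 41, 45, 43]),
   (484, 2, [(1, 0), (2, 1), (3, 2), (4, 2), (4, 3), (5, 1), (5, 3), (6, 2), (6, 4), (7, 6), (8, 6), (10, 5), (11, 6), (12, 7), (12, 10), (15, 13), (16, 11), (17, 14), (18, 16), (19, 12), (19, 14), (20, 5), (21, 10), (26, 25), (27, 23), (29, 28), (32, 30), (33, 22), (34, 31), (35, 11)], [40, 38, 39, 24, 36, 26, 41, 42, 37]),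
   (486, 2, [(2, 0), (3, 0), (3, 1), (4, 0), (4, 1), (4, 2), (5, 0), (5, 1), (5, 3), (6, 0), (6, 3), (7, 1), (7, 2), (7, 4), (8, 1), (10, 3), (13, 3), (15, 4), (16, 5), (17, 12), (18, 6), (20, 6), (21, 7), (22, 4), (23, 9), (24, 3), (26, 14), (27, 5), (28, 7), (31, 29), (32, 19), (33, 25), (34, 30), (36, 35), (38, 37)], [42, 45, 46, 40, 44, 41, 47, 39, 43]),
   (490, 2, [(1, 0), (2, 0), (3, 1), (4, 0), (4, 3), (5, 1), (6, 2), (7, 0), (8, 0), (8, 4), (9, 8), (11, 5), (11, 10), (13, 11), (14, 3), (14, 11), (15, 7), (15, 12), (17, 10), (18, 3), (21, 4), (23, 19), (24, 20), (25, 22), (27, 26), (28, 16), (30, 18), (32, 29)], [38, 39, 37, 34, 35, 36, 40, 33, 31]),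
   (494, 2, [(2, 0), (2, 1), (3, 0), (4, 0), (5, 0), (6, 1), (7, 2), (8, 4), (9, 0), (9, 5), (10, 0), (10, 1), (10, 6), (11, 2), (13, 4), (13, 5), (14, 7), (15, 13), (16, 1), (21, 20), (24, 22), (26, 25), (27, 17), (27, 18), (28, 26), (29, 23), (30, 19), (31, 30)], [32, 33, 34, 38, 37, 36, 39, 40, 35]),
   (496, 2, [(2, 0), (2, 1), (3, 0), (4, 2), (4, 3), (6, 3), (7, 4), (9, 0), (10, 1), (10, 7), (11, 8), (12, 8), (12, 9), (13, 9), (15, 1), (16, 3), (20, 4), (23, 20), (24, 22), (25, 21), (26, 18), (27, 19)], [31, 30, 32, 14, 28, 17, 33, 34, 29]),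
   (497, 2, [(2, 0), (3, 1), (3, 2), (4, 2), (4, 3), (5, 2), (5, 4), (6, 2), (9, 4), (10, 0), (11, 0), (11, 1), (11, 2), (12, 2), (12, 3), (13, 6), (19, 13), (22, 13), (23, 15), (24, 14), (25, 17), (25, 18), (26, 16), (27, 20), (28, 21)], [30, 32, 35, 31, 33, 29, 37, 34, 36]),
   (498, 2, [(1, 0), (2, 0), (2, 1), (3, 0), (3, 1), (3, 2), (4, 2), (5, 3), (9, 6), (10, 5), (10, 8), (11, 3), (11, 4), (11, 9), (13, 10), (13, 12), (14, 10), (15, 8), (16, 7), (16, 12), (17, 8), (18, 9), (19, 16), (22, 21), (25, 20), (29, 19), (30, 23), (31, 27), (33, 32), (34, 26), (35, 24)], [39, 42, 43, 38, 40, 41, 37, 28, 36]),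
   (509, 2, [(1, 0), (2, 0), (2, 1), (3, 0), (3, 1), (4, 0), (5, 2), (5, 3), (7, 0), (8, 6), (8, 7), (9, 3), (10, 5), (10, 9), (11, 2), (11, 3), (12, 0), (12, 4), (13, 5), (14, 9), (15, 5), (16, 4), (17, 10), (18, 6), (21, 19), (27, 26), (29, 22), (31, 24), (32, 28), (33, 25), (34, 23), (35, 30), (36, 20)], [45, 41, 44, 42, 38, 40, 43, 37, 39]),
   (521, 3, [], []),
   (522, 2, [(2, 0), (3, 0), (3, 1), (4, 1), (5, 2), (7, 0), (7, 3), (8, 0), (8, 2), (8, 3), (8, 4), (9, 7), (10, 3), (12, 1), (13, 7), (13, 9), (13, 10), (14, 5), (14, 6), (15, 4), (17, 16), (20, 19), (25, 21), (26, 24), (28, 23), (29, 17), (30, 18), (31, 28), (32, 22), (33, 27)], [39, 37, 38, 35, 34, 36, 40, 42, 41]),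
   (538, 2, [(1, 0), (2, 0), (3, 2), (4, 3), (5, 1), (6, 2), (6, 3), (7, 3), (7, 5), (9, 1), (10, 1), (10, 9), (11, 2), (11, 3), (12, 3), (13, 4), (14, 1), (14, 10), (15, 4), (19, 8), (21, 16), (23, 17), (25, 18), (27, 20), (28, 24), (29, 22), (30, 26), (31, 30)], [34, 35, 36, 40, 37, 38, 33, 32, 39]),
   (545, 2, [(1, 0), (2, 0), (2, 1), (3, 0), (3, 1), (4, 0), (4, 2), (6, 4), (8, 5), (9, 2), (10, 3), (13, 3), (13, 8), (14, 7), (14, 13), (15, 4), (16, 10), (17, 15), (18, 1), (19, 9), (19, 12), (24, 21), (25, 15), (27, 22), (28, 20), (30, 23), (31, 29)], [36, 38, 34, 26, 33, 32, 39, 37, 35]),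
   (547, 2, [(1, 0), (2, 0), (2, 1), (3, 0), (3, 1), (5, 0), (5, 2), (6, 2), (7, 2), (7, 5), (8, 4), (9, 0), (9, 5), (10, 8), (11, 6), (12, 8), (13, 3), (13, 8), (13, 12), (14, 7), (15, 4), (16, 15), (17, 12), (20, 18), (23, 21), (26, 25), (29, 28), (30, 27), (32, 19), (33, 24), (34, 31), (35, 22)], [39, 42, 40, 36, 43, 37, 38, 41, 44])]

/-- Part 5 of the orbits. -/
def orbs5 : List (Nat × Nat × List (Nat × Nat) × List Nat) :=
  [(548, 2, [(1, 0), (2, 1), (3, 0), (3, 1), (3, 2), (4, 2), (4, 3), (5, 0), (6, 0), (7, 2), (8, 0), (9, 8), (11, 4), (12, 2), (13, 6), (14, 6), (14, 8), (15, 6), (16, 6), (17, 4), (17, 8), (18, 17), (21, 19), (23, 20), (24, 15), (26, 22), (29, 25), (30, 28), (32, 11), (33, 27), (34, 31)], [43, 42, 40, 41, 37, 39, 38, 36, 35]),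
   (561, 2, [(1, 0), (2, 0), (2, 1), (3, 0), (3, 1), (3, 2), (5, 1), (6, 3), (8, 5), (8, 6), (9, 7), (11, 5), (11, 10), (12, 0), (13, 2), (13, 12), (14, 8), (14, 12), (16, 7), (17, 5), (17, 10), (17, 15), (18, 13), (19, 8), (28, 25), (29, 24), (31, 22), (32, 27), (33, 21), (33, 30), (34, 26), (35, 23), (36, 20)], [39, 42, 44, 37, 45, 43, 40, 41, 38]),
   (563, 1, [(3, 0), (4, 1), (5, 0), (5, 1), (5, 4), (6, 2), (6, 5), (9, 0), (9, 4), (15, 11), (16, 13), (17, 10), (18, 9), (18, 14), (19, 11), (20, 15)], [27, 26, 21, 25, 23, 24, 22, 28]),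
   (564, 2, [(4, 0), (5, 0), (6, 0), (7, 2), (7, 4), (8, 0), (9, 1), (10, 0), (10, 2), (10, 5), (11, 3), (12, 7), (12, 9), (13, 10), (14, 1), (15, 1), (15, 12), (16, 3), (16, 9), (21, 18), (22, 17), (23, 19), (24, 19), (27, 20), (28, 25), (29, 26), (30, 18), (31, 25)], [35, 32, 34, 40, 37, 36, 38, 39, 33]),
   (565, 2, [(1, 0), (2, 0), (2, 1), (3, 0), (3, 2), (4, 1), (5, 0), (6, 5), (7, 2), (8, 3), (9, 4), (10, 2), (11, 3), (12, 4), (12, 7), (13, 7), (14, 3), (14, 5), (15, 3), (16, 8), (18, 5), (18, 8), (19, 2), (20, 17), (24, 21), (25, 22), (26, 23), (29, 28), (32, 27), (33, 31), (34, 30), (35, 11)], [37, 38, 39, 44, 43, 42, 40, 41, 36]),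
   (569, 2, [(1, 0), (2, 1), (3, 0), (3, 2), (4, 0), (4, 1), (4, 3), (6, 1), (7, 3), (8, 2), (9, 6), (10, 7), (13, 3), (14, 9), (15, 9), (16, 10), (16, 11), (17, 11), (18, 16), (19, 11), (20, 7), (24, 23), (25, 21), (27, 22), (31, 30), (33, 29)], [26, 28, 32, 38, 35, 36, 37, 34, 23]),
   (570, 2, [(1, 0), (2, 0), (2, 1), (3, 1), (4, 0), (4, 2), (6, 2), (6, 3), (7, 4), (8, 1), (9, 0), (9, 3), (11, 0), (11, 4), (12, 6), (13, 4), (14, 11), (15, 9), (16, 11), (17, 3), (20, 15), (22, 18), (23, 6), (25, 24), (26, 21), (27, 14), (29, 28), (31, 19), (32, 30)], [37, 36, 35, 38, 41, 34, 39, 40, 33]),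
   (572, 2, [(1, 0), (2, 1), (3, 0), (3, 2), (4, 0), (4, 1), (4, 3), (5, 0), (5, 1), (6, 1), (7, 6), (9, 5), (10, 0), (10, 6), (13, 7), (14, 7), (15, 11), (16, 12), (17, 14), (18, 3), (18, 12), (19, 6), (20, 1), (20, 12), (21, 18), (24, 23), (25, 22), (27, 26), (32, 28), (33, 31), (35, 34), (36, 29)], [42, 43, 40, 30, 41, 37, 39, 44, 38]),
   (573, 3, [], []),
   (574, 2, [(3, 0), (4, 0), (5, 0), (6, 1), (7, 0), (8, 0), (8, 3), (8, 5), (9, 4), (10, 5), (10, 7), (11, 1), (11, 2), (11, 6), (12, 7), (13, 12), (14, 5), (14, 8), (15, 1), (15, 6), (16, 9), (17, 1), (22, 19), (24, 18), (26, 21), (27, 22), (29, 20), (31, 30), (32, 23), (33, 28), (34, 25)], [35, 37, 38, 39, 41, 42, 40, 43, 36]),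
   (575, 2, [(3, 2), (4, 0), (5, 0), (5, 1), (6, 5), (8, 0), (9, 3), (10, 4), (10, 9), (11, 5), (12, 6), (13, 8), (14, 2), (14, 11), (15, 9), (16, 3), (16, 11), (18, 3), (20, 19), (21, 17), (23, 20), (23, 22), (26, 24), (28, 25), (29, 27)], [35, 37, 36, 31, 33, 34, 22, 30, 32]),
   (576, 2, [(1, 0), (2, 0), (3, 1), (4, 3), (7, 6), (8, 1), (11, 4), (13, 12), (14, 1), (14, 4), (14, 7), (14, 12), (15, 4), (15, 5), (15, 8), (15, 9), (16, 13), (17, 15), (20, 19), (21, 12), (24, 18), (25, 24), (26, 22), (27, 23), (28, 22)], [34, 37, 32, 36, 30, 33, 35, 31, 29]),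
   (577, 1, [(2, 0), (3, 1), (4, 0), (5, 1), (8, 3), (9, 1), (9, 7), (10, 8), (11, 6), (12, 7), (13, 5), (13, 8), (14, 9), (19, 17), (20, 18), (23, 8), (24, 14), (24, 15), (25, 16)], [30, 28, 26, 27, 31, 29, 22, 21]),
   (578, 2, [(3, 0), (3, 1), (4, 0), (4, 2), (5, 0), (5, 1), (6, 1), (6, 3), (8, 0), (9, 1), (11, 1), (13, 6), (13, 7), (14, 7), (15, 5), (15, 11), (16, 12), (17, 8), (17, 9), (18, 12), (19, 9), (23, 16), (24, 22), (26, 19), (27, 25), (29, 20), (30, 20), (30, 28), (31, 21), (33, 32)], [38, 40, 42, 36, 37, 39, 35, 34, 41]),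
   (580, 2, [(1, 0), (2, 0), (3, 0), (3, 1), (3, 2), (4, 3), (6, 1), (7, 2), (8, 0), (9, 2), (10, 2), (10, 3), (12, 7), (12, 11), (13, 2), (13, 8), (14, 1), (14, 9), (15, 9), (16, 4), (16, 10), (17, 10), (18, 13), (22, 6), (25, 23), (26, 21), (27, 24), (30, 19), (32, 28), (33, 20), (34, 29), (35, 31)], [41, 40, 42, 44, 38, 43, 39, 36, 37]),
   (582, 2, [(1, 0), (2, 0), (3, 0), (3, 1), (3, 2), (4, 1), (4, 2), (5, 3), (5, 4), (7, 0), (8, 5), (10, 7), (11, 5), (11, 8), (12, 6), (12, 9), (15, 6), (16, 9), (17, 13), (18, 2), (18, 6), (18, 7), (20, 14), (21, 12), (25, 24), (27, 26), (28, 22), (28, 23), (29, 19), (32, 30), (34, 31), (35, 30), (36, 33)], [37, 38, 39, 43, 44, 42, 41, 40, 45]),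
   (583, 2, [(2, 0), (3, 0), (3, 2), (4, 2), (5, 0), (5, 3), (6, 0), (6, 5), (8, 0), (9, 7), (9, 8), (12, 4), (12, 10), (13, 8), (13, 11), (14, 1), (15, 7), (16, 7), (17, 3), (18, 16), (19, 5), (20, 15), (21, 13), (23, 13), (25, 22), (28, 26), (29, 18), (30, 27), (32, 25), (33, 24), (34, 31)], [41, 42, 43, 39, 35, 40, 38, 36, 37]),
   (584, 2, [(2, 1), (3, 0), (3, 1), (4, 0), (5, 2), (5, 3), (7, 1), (8, 2), (9, 3), (9, 6), (10, 4), (10, 5), (10, 7), (11, 6), (12, 1), (12, 7), (12, 10), (13, 3), (13, 5), (16, 10), (17, 14), (18, 7), (19, 15), (24, 20), (26, 21), (28, 23), (29, 22), (31, 27), (32, 30), (33, 25)], [36, 37, 38, 42, 35, 41, 39, 40, 34]),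
   (585, 2, [(2, 0), (3, 1), (4, 1), (4, 2), (5, 0), (5, 2), (6, 1), (6, 3), (7, 4), (8, 5), (9, 1), (9, 6), (10, 2), (11, 3), (12, 9), (13, 4), (14, 5), (15, 8), (16, 6), (17, 1), (19, 7), (20, 4), (20, 18), (23, 21), (25, 22), (26, 24), (28, 6), (29, 20), (31, 8), (32, 30), (34, 33), (35, 27)], [36, 37, 38, 39, 40, 41, 44, 42, 43]),
   (597, 2, [(1, 0), (2, 0), (2, 1), (3, 0), (3, 1), (4, 1), (5, 1), (5, 3), (6, 5), (9, 1), (10, 7), (11, 10), (12, 3), (12, 7), (12, 9), (13, 6), (13, 8), (13, 9), (14, 7), (14, 11), (15, 9), (16, 10), (17, 8), (18, 3), (24, 20), (25, 23), (27, 19), (28, 22), (31, 29), (32, 30), (34, 21), (35, 33), (36, 26)], [41, 44, 43, 38, 45, 39, 40, 42, 37]),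
   (601, 2, [(1, 0), (3, 0), (3, 2), (4, 0), (4, 3), (5, 1), (6, 0), (8, 5), (9, 2), (9, 6), (10, 1), (10, 3), (10, 7), (11, 4), (13, 5), (13, 7), (14, 4), (15, 12), (18, 17), (21, 20), (22, 16), (24, 22), (26, 25), (27, 11), (27, 12), (28, 23), (30, 29), (31, 19)], [32, 34, 35, 36, 33, 38, 40, 37, 39]),
   (607, 2, [(3, 0), (4, 1), (5, 1), (5, 4), (6, 3), (7, 5), (7, 6), (8, 4), (9, 0), (10, 0), (10, 1), (11, 1), (12, 2), (12, 4), (12, 8), (13, 1), (14, 9), (15, 3), (18, 6), (24, 21), (25, 23), (26, 20), (27, 22), (28, 17), (30, 29)], [35, 32, 33, 16, 31, 19, 36, 37, 34]),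
   (608, 1, [(2, 1), (4, 0), (4, 3), (6, 3), (6, 4), (7, 4), (8, 5), (9, 6), (10, 6), (13, 7), (14, 1), (16, 7), (17, 5), (18, 8), (19, 9), (20, 10), (21, 15)], [26, 28, 25, 22, 27, 24, 23, 29]),
   (612, 2, [(1, 0), (2, 0), (2, 1), (3, 0), (3, 1), (4, 0), (4, 1), (4, 2), (4, 3), (6, 2), (7, 0), (7, 5), (8, 0), (8, 1), (8, 7), (9, 1), (12, 3), (12, 5), (14, 12), (16, 15), (18, 7), (18, 12), (19, 6), (20, 13), (21, 15), (25, 24), (26, 17), (28, 23), (29, 22), (32, 27), (33, 31), (35, 34), (36, 30), (37, 30)], [42, 43, 45, 46, 41, 44, 40, 39, 38]),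
   (615, 2, [(1, 0), (2, 0), (3, 0), (3, 1), (3, 2), (4, 0), (4, 1), (4, 2), (5, 0), (5, 2), (5, 3), (9, 6), (12, 1), (12, 4), (13, 11), (14, 7), (15, 5), (16, 5), (16, 9), (17, 8), (17, 10), (18, 16), (20, 6), (20, 15), (21, 10), (22, 6), (23, 10), (28, 19), (30, 26), (33, 25), (34, 27), (35, 31), (36, 24), (38, 37), (39, 32)], [46, 45, 43, 42, 44, 41, 29, 40, 47]),
   (620, 2, [(1, 0), (3, 0), (5, 1), (6, 1), (6, 2), (6, 5), (7, 1), (8, 1), (8, 2), (9, 3), (10, 4), (10, 6), (13, 8), (13, 10), (14, 1), (15, 2), (17, 7), (19, 18), (21, 7), (22, 8), (23, 9), (24, 20), (27, 16), (28, 25), (29, 27)], [31, 32, 33, 34, 36, 26, 35, 30, 37]),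
   (626, 2, [(1, 0), (2, 0), (2, 1), (3, 1), (3, 2), (4, 2), (4, 3), (5, 4), (6, 0), (6, 3), (7, 4), (8, 5), (9, 6), (9, 7), (11, 5), (14, 5), (15, 5), (16, 9), (17, 13), (19, 15), (20, 17), (21, 18), (23, 22), (25, 24), (27, 26), (28, 18), (34, 30)], [31, 32, 33, 35, 39, 36, 37, 38, 29]),
   (633, 2, [(1, 0), (2, 1), (3, 2), (5, 0), (6, 1), (6, 4), (7, 3), (8, 1), (8, 3), (9, 2), (9, 4), (9, 8), (10, 5), (12, 0), (13, 3), (13, 11), (18, 12), (19, 16), (20, 17), (21, 13), (23, 14), (25, 15), (26, 22), (27, 16), (28, 24)], [32, 33, 34, 29, 37, 31, 36, 35, 30]),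
   (635, 2, [(1, 0), (2, 1), (3, 0), (4, 0), (4, 3), (5, 0), (5, 1), (6, 2), (8, 5), (10, 0), (10, 2), (10, 4), (11, 5), (11, 7), (11, 8), (12, 9), (15, 2), (15, 9), (15, 12), (16, 6), (16, 13), (17, 8), (17, 9), (19, 14), (20, 18), (25, 23), (26, 21), (31, 27), (32, 29), (33, 28), (34, 30), (35, 24), (36, 22)], [40, 42, 45, 44, 38, 43, 41, 39, 37]),
   (642, 2, [(1, 0), (2, 0), (2, 1), (3, 0), (3, 1), (3, 2), (4, 0), (7, 3), (8, 2), (9, 4), (10, 6), (10, 8), (11, 4), (12, 2), (12, 7), (13, 11), (14, 1), (14, 3), (15, 12), (16, 7), (16, 9), (17, 2), (18, 4), (19, 3), (20, 11), (23, 21), (26, 22), (29, 28), (30, 25), (32, 27), (33, 24), (34, 31), (36, 35)], [40, 44, 45, 42, 38, 41, 39, 43, 37])]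

/-- Part 6 of the orbits. -/
def orbs6 : List (Nat × Nat × List (Nat × Nat) × List Nat) :=
  [(644, 1, [(2, 0), (3, 1), (4, 2), (5, 2), (6, 3), (6, 4), (7, 0), (7, 4), (7, 5), (8, 1), (11, 4), (12, 5), (13, 4), (14, 9), (15, 10), (19, 18), (22, 20), (22, 21), (23, 16), (24, 17)], [32, 30, 25, 29, 28, 31, 27, 26]),
   (645, 2, [(1, 0), (2, 1), (3, 0), (3, 2), (4, 0), (4, 1), (5, 2), (6, 4), (8, 4), (9, 5), (9, 8), (10, 6), (11, 4), (11, 10), (12, 9), (13, 10), (14, 7), (15, 2), (16, 7), (17, 9), (18, 3), (18, 15), (19, 4), (25, 16), (28, 20), (29, 28), (30, 21), (31, 23), (32, 26), (33, 22), (34, 27), (35, 24)], [39, 42, 44, 40, 36, 43, 37, 38, 41]),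
   (652, 2, [(1, 0), (2, 1), (3, 2), (5, 1), (6, 3), (6, 5), (7, 0), (7, 1), (8, 1), (8, 5), (8, 7), (9, 6), (10, 2), (11, 4), (13, 2), (13, 5), (13, 9), (14, 6), (15, 12), (17, 16), (18, 7), (23, 9), (24, 23), (25, 22), (27, 26), (28, 19), (29, 20), (30, 21), (32, 31)], [39, 38, 40, 33, 35, 34, 37, 41, 36]),
   (655, 2, [(1, 0), (2, 0), (3, 0), (3, 1), (3, 2), (4, 0), (4, 1), (4, 2), (5, 2), (5, 4), (6, 4), (10, 3), (10, 8), (11, 5), (11, 8), (12, 11), (13, 4), (13, 8), (14, 4), (18, 9), (18, 12), (19, 3), (19, 6), (19, 15), (20, 12), (21, 15), (22, 17), (23, 16), (28, 24), (29, 25), (32, 17), (34, 33), (36, 26), (37, 35), (38, 30), (39, 27), (40, 31)], [46, 45, 47, 48, 41, 49, 42, 44, 43]),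
   (656, 2, [(1, 0), (2, 0), (3, 0), (3, 1), (4, 3), (5, 3), (8, 6), (9, 3), (10, 0), (10, 1), (10, 4), (11, 0), (11, 5), (11, 8), (12, 0), (12, 9), (13, 5), (13, 6), (14, 5), (16, 12), (24, 20), (25, 21), (26, 20), (27, 17), (28, 23), (29, 15), (30, 18), (31, 22), (32, 19)], [35, 37, 34, 38, 41, 40, 33, 39, 36]),
   (658, 2, [(2, 0), (3, 0), (4, 0), (4, 2), (5, 1), (5, 3), (6, 1), (6, 3), (7, 3), (8, 2), (8, 4), (10, 4), (11, 2), (12, 1), (12, 4), (13, 12), (14, 5), (14, 6), (15, 6), (18, 7), (19, 16), (22, 17), (24, 21), (26, 25), (28, 15), (29, 20), (29, 24), (30, 23), (31, 27), (33, 32)], [38, 39, 40, 34, 41, 35, 42, 36, 37]),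
   (659, 3, [], []),
   (660, 2, [(1, 0), (2, 0), (2, 1), (3, 0), (3, 1), (4, 1), (4, 3), (9, 6), (10, 7), (11, 0), (12, 3), (12, 8), (12, 10), (13, 12), (14, 4), (15, 3), (15, 9), (15, 10), (16, 11), (18, 12), (23, 19), (26, 17), (27, 6), (29, 21), (30, 24), (31, 25), (32, 22)], [36, 38, 39, 35, 20, 37, 34, 28, 33]),
   (661, 2, [(1, 0), (2, 1), (3, 1), (3, 2), (4, 1), (4, 2), (4, 3), (5, 4), (6, 3), (10, 1), (11, 1), (12, 8), (13, 5), (14, 6), (15, 11), (16, 7), (16, 9), (18, 5), (22, 21), (23, 4), (24, 17), (25, 16), (26, 19), (27, 21), (28, 20)], [34, 35, 37, 33, 36, 31, 29, 32, 30]),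
   (662, 2, [(2, 0), (2, 1), (3, 1), (3, 2), (4, 2), (5, 0), (5, 4), (7, 1), (11, 0), (11, 8), (12, 7), (13, 5), (13, 7), (13, 8), (14, 6), (15, 10), (16, 7), (19, 6), (20, 13), (23, 22), (24, 21), (25, 17), (26, 18), (27, 8), (28, 27), (29, 9)], [36, 38, 35, 33, 37, 34, 31, 30, 32]),
   (663, 2, [(1, 0), (2, 1), (3, 0), (3, 2), (4, 1), (4, 2), (5, 4), (7, 0), (8, 2), (9, 6), (10, 2), (12, 6), (13, 6), (14, 4), (15, 14), (16, 5), (16, 7), (16, 8), (16, 11), (17, 9), (18, 8), (21, 19), (22, 13), (23, 7), (26, 24), (28, 20), (29, 27), (31, 25), (33, 30)], [37, 38, 40, 41, 35, 39, 36, 32, 34]),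
   (665, 2, [(1, 0), (2, 1), (3, 2), (4, 0), (4, 2), (4, 3), (5, 0), (6, 0), (6, 3), (8, 3), (10, 7), (10, 9), (11, 9), (12, 10), (14, 10), (16, 6), (16, 8), (17, 13), (18, 12), (19, 9), (19, 14), (19, 18), (20, 15), (21, 7), (24, 22), (28, 26), (29, 21), (30, 23), (34, 25), (35, 32), (36, 33)], [42, 41, 38, 27, 37, 31, 43, 39, 40]),
   (667, 2, [(1, 0), (2, 1), (3, 1), (3, 2), (4, 0), (4, 1), (4, 2), (4, 3), (5, 4), (6, 4), (6, 5), (13, 7), (14, 10), (16, 4), (16, 9), (17, 10), (17, 12), (18, 15), (19, 3), (19, 10), (19, 13), (22, 5), (23, 20), (26, 24), (28, 25), (32, 27), (33, 29), (33, 30)], [38, 37, 36, 31, 35, 34, 21, 39, 40]),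
   (668, 2, [(2, 0), (4, 1), (4, 2), (5, 0), (6, 1), (6, 4), (7, 2), (8, 3), (11, 1), (12, 1), (12, 2), (12, 10), (13, 8), (13, 12), (16, 2), (17, 3), (19, 4), (21, 14), (22, 18), (23, 20), (24, 15), (25, 11), (26, 16)], [27, 28, 29, 33, 35, 31, 34, 32, 30]),
   (670, 2, [(2, 0), (3, 0), (3, 1), (4, 1), (4, 2), (5, 0), (5, 1), (5, 2), (6, 0), (7, 1), (7, 2), (7, 3), (8, 1), (9, 2), (10, 3), (10, 6), (11, 4), (12, 5), (13, 11), (16, 6), (17, 15), (18, 16), (19, 9), (19, 14), (20, 8), (27, 21), (28, 22), (29, 25), (30, 26), (33, 24), (35, 34), (36, 23), (37, 31)], [40, 41, 38, 43, 42, 44, 39, 32, 45]),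
   (672, 2, [(2, 0), (3, 0), (4, 1), (4, 2), (5, 2), (7, 1), (9, 1), (10, 1), (11, 1), (11, 3), (12, 5), (13, 7), (13, 10), (13, 12), (14, 1), (14, 6), (16, 6), (17, 3), (21, 12), (24, 20), (25, 22), (27, 23), (28, 15), (29, 19), (30, 18)], [31, 26, 27, 34, 32, 37, 33, 35, 36]),
   (693, 2, [(1, 0), (2, 0), (2, 1), (3, 0), (3, 2), (4, 1), (5, 2), (6, 0), (6, 3), (10, 2), (12, 7), (12, 11), (13, 3), (14, 7), (14, 12), (15, 6), (16, 13), (18, 6), (18, 8), (18, 15), (20, 16), (20, 17), (23, 22), (24, 22), (26, 25), (27, 18), (29, 19), (32, 21), (33, 28), (34, 30)], [38, 39, 40, 42, 36, 41, 37, 31, 35]),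
   (694, 2, [(1, 0), (2, 0), (2, 1), (3, 1), (3, 2), (4, 0), (4, 2), (4, 3), (6, 3), (7, 6), (9, 6), (9, 8), (11, 1), (11, 10), (12, 1), (12, 9), (13, 2), (13, 7), (14, 8), (14, 10), (15, 8), (16, 15), (19, 17), (25, 24), (28, 22), (30, 27), (31, 18), (31, 29), (32, 20), (33, 26), (34, 23), (35, 21)], [39, 38, 40, 37, 42, 36, 43, 41, 44]),
   (695, 2, [(3, 0), (3, 1), (4, 0), (5, 0), (5, 1), (6, 0), (6, 1), (6, 3), (6, 4), (7, 0), (7, 2), (7, 3), (8, 4), (9, 5), (9, 6), (10, 4), (10, 8), (12, 8), (13, 11), (15, 11), (15, 12), (16, 14), (18, 17), (25, 16), (26, 19), (27, 23), (28, 22), (29, 21), (32, 30), (33, 20), (34, 31), (35, 24)], [39, 36, 37, 43, 44, 41, 38, 40, 42]),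
   (697, 2, [(3, 0), (4, 0), (4, 1), (5, 0), (5, 2), (6, 2), (6, 3), (7, 0), (7, 1), (8, 3), (8, 4), (9, 3), (9, 5), (10, 6), (11, 5), (12, 4), (13, 7), (14, 6), (15, 8), (16, 12), (17, 8), (17, 9), (18, 11), (19, 14), (24, 20), (27, 21), (29, 23), (30, 28), (31, 25), (33, 32), (34, 26), (36, 35)], [39, 41, 43, 38, 44, 37, 40, 22, 42]),
   (698, 1, [(3, 0), (4, 1), (5, 0), (5, 2), (7, 1), (8, 2), (9, 3), (10, 4), (11, 5), (12, 4), (12, 6), (12, 7), (13, 5), (14, 8), (15, 2), (16, 9), (25, 22), (26, 21), (27, 24), (28, 23)], [18, 20, 29, 31, 19, 17, 32, 30]),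
   (704, 1, [(1, 0), (2, 1), (3, 2), (5, 1), (6, 1), (6, 3), (7, 2), (8, 4), (9, 1), (13, 8), (14, 9), (15, 10), (17, 8), (18, 16), (19, 9), (20, 11)], [22, 24, 28, 21, 23, 26, 27, 25]),
   (707, 2, [(2, 1), (3, 0), (3, 2), (4, 1), (5, 2), (6, 5), (10, 2), (10, 7), (11, 8), (12, 2), (12, 4), (13, 6), (14, 2), (14, 4), (14, 5), (14, 9), (15, 9), (15, 11), (16, 5), (17, 7), (23, 15), (25, 21), (26, 10), (27, 20), (28, 22), (29, 24), (30, 18), (31, 11), (32, 19)], [34, 35, 40, 36, 39, 38, 37, 41, 33]),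
   (712, 2, [(1, 0), (2, 1), (3, 2), (4, 0), (4, 3), (5, 4), (7, 0), (7, 1), (7, 3), (7, 6), (8, 1), (9, 0), (9, 2), (11, 5), (11, 7), (12, 3), (12, 6), (13, 12), (14, 3), (14, 10), (15, 11), (16, 10), (17, 5), (20, 11), (23, 22), (24, 21), (27, 24), (30, 18), (31, 19), (32, 26), (33, 29), (34, 28), (35, 25), (37, 36)], [42, 43, 40, 41, 39, 45, 44, 46, 38]),
   (713, 2, [(3, 0), (4, 0), (4, 1), (5, 0), (5, 1), (5, 2), (6, 1), (7, 2), (9, 5), (10, 0), (11, 3), (11, 8), (12, 2), (12, 8), (13, 12), (15, 6), (16, 10), (17, 14), (18, 7), (19, 11), (20, 3), (22, 18), (24, 13), (25, 21), (25, 23), (26, 17), (29, 28), (30, 27), (32, 31), (33, 32)], [42, 39, 41, 35, 36, 34, 40, 37, 38]),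
   (714, 2, [(1, 0), (2, 1), (3, 2), (4, 0), (4, 1), (4, 2), (7, 1), (8, 7), (9, 0), (9, 7), (10, 1), (10, 3), (10, 9), (11, 2), (11, 8), (12, 3), (13, 12), (16, 14), (17, 5), (18, 15), (21, 12), (24, 22), (26, 16), (26, 21), (27, 19), (28, 23), (29, 25), (30, 20), (32, 31)], [36, 38, 35, 34, 41, 37, 40, 39, 33]),
   (716, 2, [(1, 0), (2, 0), (2, 1), (3, 1), (3, 2), (4, 0), (4, 2), (4, 3), (5, 1), (5, 4), (6, 0), (6, 4), (8, 1), (11, 2), (11, 9), (12, 3), (12, 10), (13, 6), (13, 7), (13, 8), (14, 7), (16, 5), (18, 6), (18, 9), (19, 17), (20, 15), (21, 10), (23, 16), (24, 22), (30, 27), (31, 25), (32, 29), (35, 26), (36, 26), (37, 34), (39, 28), (40, 38), (41, 33)], [46, 48, 45, 50, 49, 43, 47, 42, 44]),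
   (724, 2, [(2, 0), (2, 1), (4, 0), (4, 3), (5, 4), (7, 3), (8, 4), (9, 5), (10, 6), (10, 9), (12, 11), (13, 6), (13, 9), (14, 6), (15, 11), (16, 13), (19, 18), (21, 19), (21, 20), (22, 17), (24, 23), (25, 16), (27, 22), (28, 26)], [35, 34, 33, 29, 30, 31, 20, 32, 36]),
   (726, 2, [(4, 1), (5, 0), (6, 0), (6, 1), (6, 3), (7, 0), (7, 1), (8, 0), (8, 1), (8, 2), (9, 6), (10, 0), (13, 7), (15, 3), (16, 8), (17, 10), (17, 13), (18, 10), (19, 9), (19, 17), (20, 10), (20, 17), (21, 15), (21, 17), (22, 9), (24, 13), (28, 14), (29, 27), (30, 26), (32, 23), (33, 25), (34, 31), (36, 30), (37, 35)], [45, 44, 43, 40, 39, 46, 42, 38, 41]),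
   (727, 2, [(2, 1), (3, 0), (3, 2), (4, 3), (5, 2), (6, 2), (8, 0), (8, 1), (9, 1), (10, 2), (10, 9), (11, 2), (12, 1), (13, 7), (14, 8), (15, 7), (15, 8), (16, 9), (17, 3), (19, 4), (24, 18), (25, 11), (26, 19), (27, 22), (28, 20), (29, 21), (30, 22), (31, 23)], [35, 38, 39, 33, 40, 32, 36, 34, 37])]

/-- Part 7 of the orbits. -/
def orbs7 : List (Nat × Nat × List (Nat × Nat) × List Nat) :=
  [(731, 2, [(1, 0), (2, 1), (3, 1), (3, 2), (5, 1), (6, 2), (7, 1), (7, 3), (8, 4), (9, 1), (10, 2), (11, 2), (11, 3), (13, 3), (14, 8), (15, 4), (16, 12), (21, 17), (22, 7), (22, 18), (23, 20), (24, 6), (25, 21), (26, 8), (27, 19), (29, 28)], [32, 33, 35, 37, 30, 38, 31, 36, 34]),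
   (739, 1, [(4, 1), (5, 3), (7, 0), (7, 1), (7, 4), (8, 1), (8, 2), (9, 0), (9, 6), (10, 6), (11, 1), (11, 7), (12, 2), (14, 7), (16, 9), (18, 17), (19, 10), (20, 13), (21, 15), (23, 22), (25, 24)], [33, 30, 28, 26, 31, 32, 29, 27]),
   (740, 2, [(1, 0), (2, 1), (3, 1), (3, 2), (4, 0), (4, 1), (4, 3), (5, 2), (7, 1), (7, 3), (8, 4), (9, 5), (11, 9), (12, 0), (13, 3), (14, 7), (15, 2), (16, 4), (16, 7), (17, 9), (18, 8), (21, 8), (22, 14), (23, 16), (24, 19), (27, 25), (29, 20), (30, 28), (31, 26), (33, 32)], [35, 36, 37, 41, 34, 38, 42, 40, 39]),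
   (741, 2, [(1, 0), (2, 1), (3, 0), (3, 1), (4, 0), (7, 0), (8, 0), (8, 3), (9, 0), (10, 0), (11, 6), (12, 4), (13, 4), (13, 12), (14, 5), (14, 11), (15, 12), (16, 14), (18, 5), (19, 17), (22, 20), (25, 10), (26, 23), (27, 11), (28, 24), (29, 21), (30, 19)], [38, 34, 36, 35, 31, 39, 33, 37, 32]),
   (745, 2, [(1, 0), (2, 0), (2, 1), (3, 0), (4, 2), (4, 3), (5, 0), (6, 5), (7, 0), (7, 5), (10, 3), (11, 3), (12, 5), (13, 7), (14, 1), (14, 9), (15, 8), (16, 2), (17, 6), (23, 18), (24, 13), (24, 22), (25, 20), (26, 11), (28, 21), (29, 12), (30, 19), (31, 27)], [37, 36, 38, 32, 39, 35, 34, 33, 40]),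
   (757, 2, [(2, 1), (4, 0), (4, 2), (5, 0), (5, 3), (6, 4), (7, 0), (7, 5), (8, 0), (8, 3), (9, 1), (10, 1), (10, 2), (10, 5), (11, 3), (14, 12), (16, 12), (21, 17), (22, 15), (23, 18), (23, 19), (25, 20), (26, 18), (27, 24), (28, 13)], [30, 32, 34, 31, 33, 35, 36, 29, 37]),
   (768, 2, [(1, 0), (2, 0), (2, 1), (3, 1), (3, 2), (4, 0), (4, 2), (5, 3), (6, 5), (9, 0), (9, 3), (11, 0), (11, 2), (11, 4), (11, 5), (13, 4), (13, 9), (13, 11), (14, 13), (15, 7), (16, 14), (18, 8), (19, 9), (19, 17), (20, 4), (24, 22), (25, 23), (27, 18), (29, 21), (32, 26), (34, 31), (35, 28), (36, 30), (37, 33)], [45, 46, 43, 39, 41, 40, 44, 42, 38]),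
   (769, 2, [(1, 0), (2, 0), (2, 1), (3, 1), (4, 0), (4, 1), (4, 2), (5, 0), (9, 7), (11, 1), (11, 6), (12, 9), (12, 10), (16, 12), (16, 15), (17, 3), (18, 10), (19, 11), (19, 13), (19, 16), (20, 2), (20, 7), (20, 12), (20, 15), (21, 18), (23, 14), (29, 24), (31, 27), (32, 28), (33, 25), (34, 22), (35, 26), (36, 30)], [41, 45, 43, 40, 39, 44, 38, 42, 37]),
   (771, 2, [(1, 0), (3, 1), (4, 0), (4, 1), (7, 5), (8, 2), (8, 4), (9, 5), (10, 4), (10, 6), (11, 0), (11, 7), (11, 9), (12, 8), (13, 4), (14, 6), (15, 10), (22, 19), (23, 21), (24, 8), (24, 20), (25, 18), (26, 22), (27, 17), (28, 24), (29, 16)], [30, 33, 35, 34, 37, 31, 38, 36, 32]),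
   (776, 2, [(1, 0), (4, 0), (5, 1), (5, 2), (6, 3), (7, 2), (7, 4), (8, 1), (8, 5), (9, 0), (9, 2), (10, 3), (11, 4), (12, 5), (13, 7), (13, 12), (15, 7), (16, 8), (16, 11), (22, 19), (23, 17), (24, 19), (25, 21), (27, 14), (28, 20), (29, 9), (30, 18), (31, 26)], [33, 34, 35, 40, 32, 36, 38, 37, 39]),
   (784, 2, [(1, 0), (2, 0), (2, 1), (4, 0), (7, 3), (8, 2), (8, 4), (9, 3), (10, 4), (10, 8), (12, 4), (13, 3), (14, 6), (15, 4), (16, 2), (16, 15), (18, 9), (21, 11), (23, 15), (23, 22), (24, 17), (25, 18), (26, 19), (27, 8), (28, 20)], [33, 35, 34, 29, 36, 30, 32, 31, 37]),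
   (791, 2, [(2, 0), (3, 0), (3, 1), (4, 0), (4, 1), (4, 2), (6, 4), (8, 1), (10, 7), (12, 1), (12, 10), (13, 3), (13, 4), (14, 1), (15, 5), (15, 11), (15, 12), (17, 2), (20, 2), (21, 15), (22, 19), (23, 18), (26, 25), (28, 24), (29, 24), (30, 27)], [37, 35, 38, 34, 32, 33, 36, 16, 31]),
   (795, 2, [(3, 1), (4, 2), (5, 0), (5, 1), (5, 2), (5, 3), (6, 0), (6, 2), (7, 1), (7, 5), (8, 3), (9, 4), (10, 2), (10, 3), (10, 5), (11, 4), (14, 13), (15, 14), (16, 8), (17, 11), (18, 10), (22, 13), (24, 17), (26, 19), (27, 20), (28, 21), (29, 23), (31, 30), (32, 25), (33, 22)], [37, 36, 38, 42, 40, 39, 35, 34, 41]),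
   (803, 2, [(1, 0), (2, 0), (2, 1), (3, 0), (3, 1), (3, 2), (4, 1), (6, 3), (7, 1), (9, 7), (11, 5), (11, 9), (12, 1), (14, 5), (14, 11), (15, 8), (16, 6), (16, 9), (16, 10), (17, 12), (18, 6), (19, 3), (21, 9), (22, 13), (25, 24), (28, 22), (29, 23), (30, 20), (31, 26), (33, 27), (34, 32)], [38, 42, 40, 43, 35, 41, 39, 36, 37]),
   (805, 2, [(2, 0), (5, 0), (5, 1), (6, 2), (7, 2), (7, 3), (9, 1), (9, 4), (9, 8), (10, 0), (10, 9), (11, 1), (11, 9), (12, 2), (12, 4), (13, 5), (13, 9), (14, 1), (19, 8), (20, 5), (22, 15), (24, 16), (25, 23), (26, 18), (27, 21), (29, 17), (30, 28)], [33, 34, 36, 37, 39, 31, 32, 35, 38]),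
   (807, 2, [(1, 0), (3, 1), (3, 2), (4, 0), (4, 2), (5, 0), (5, 1), (6, 0), (6, 1), (6, 2), (6, 4), (7, 0), (7, 2), (7, 5), (8, 6), (10, 3), (13, 3), (13, 10), (15, 5), (17, 11), (18, 8), (18, 9), (18, 10), (18, 14), (19, 10), (21, 16), (22, 11), (23, 12), (24, 9), (25, 20), (29, 26), (30, 14), (34, 28), (35, 31), (36, 27), (38, 32), (39, 37), (41, 33), (42, 40)], [50, 51, 48, 49, 47, 43, 45, 46, 44]),
   (809, 2, [(2, 1), (5, 3), (6, 0), (6, 1), (6, 4), (7, 2), (7, 5), (8, 3), (9, 1), (11, 0), (12, 10), (12, 11), (14, 4), (15, 5), (17, 5), (19, 6), (20, 18), (23, 22), (24, 21), (26, 13)], [25, 27, 28, 16, 29, 20, 30, 31, 32]),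
   (811, 2, [(1, 0), (3, 0), (3, 2), (4, 1), (4, 3), (5, 4), (6, 1), (6, 5), (8, 3), (9, 6), (11, 6), (11, 8), (12, 4), (12, 9), (13, 7), (14, 2), (14, 6), (15, 10), (15, 13), (16, 11), (17, 6), (18, 7), (19, 3), (21, 18), (28, 22), (29, 27), (30, 20), (30, 25), (32, 31), (33, 24), (34, 26), (35, 23)], [42, 43, 41, 37, 39, 38, 40, 44, 36]),
   (822, 2, [(1, 0), (2, 1), (3, 0), (3, 2), (4, 1), (4, 2), (5, 0), (6, 3), (8, 7), (10, 1), (10, 8), (11, 10), (12, 0), (12, 8), (13, 8), (14, 7), (14, 12), (15, 6), (16, 8), (18, 13), (19, 3), (22, 20), (23, 16), (26, 17), (27, 19), (28, 25), (29, 21), (30, 24), (31, 13), (33, 32)], [38, 41, 40, 36, 42, 34, 37, 39, 35]),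
   (827, 2, [(4, 0), (5, 1), (6, 1), (6, 2), (7, 2), (7, 5), (8, 3), (8, 4), (9, 0), (9, 4), (10, 6), (12, 3), (13, 5), (14, 6), (15, 13), (16, 7), (16, 11), (17, 14), (21, 20), (22, 19), (23, 22), (25, 17), (26, 19), (28, 22), (29, 18), (30, 27), (31, 24)], [34, 35, 36, 33, 38, 30, 32, 39, 37]),
   (834, 2, [(2, 0), (3, 1), (4, 0), (4, 1), (4, 2), (5, 0), (5, 3), (6, 2), (7, 2), (10, 1), (11, 9), (12, 2), (12, 7), (12, 8), (12, 9), (13, 6), (13, 7), (14, 10), (15, 14), (16, 2), (17, 14), (18, 2), (19, 9), (21, 16), (24, 23), (28, 25), (29, 25), (31, 27), (32, 9), (33, 20), (34, 26), (35, 22), (36, 30)], [42, 43, 40, 39, 44, 41, 45, 37, 38]),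
   (842, 2, [(1, 0), (2, 1), (3, 2), (4, 0), (4, 3), (5, 0), (5, 2), (6, 0), (6, 3), (7, 4), (9, 2), (9, 3), (10, 4), (11, 5), (13, 3), (13, 11), (16, 11), (16, 14), (19, 17), (22, 21), (24, 13), (25, 14), (26, 15), (28, 23), (29, 20), (30, 18), (31, 27)], [33, 34, 35, 37, 38, 39, 36, 32, 21]),
   (846, 2, [(2, 0), (2, 1), (3, 1), (4, 2), (7, 3), (7, 4), (9, 2), (9, 6), (9, 8), (11, 7), (12, 0), (12, 3), (12, 10), (13, 4), (13, 5), (13, 12), (14, 5), (15, 5), (15, 13), (19, 18), (21, 13), (23, 22), (26, 15), (27, 25), (28, 17), (29, 20), (30, 16), (31, 24)], [40, 35, 39, 36, 34, 37, 38, 32, 33]),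
   (847, 2, [(3, 0), (3, 2), (4, 1), (4, 2), (5, 0), (5, 2), (5, 4), (7, 2), (8, 7), (9, 0), (10, 1), (11, 6), (12, 7), (12, 8), (14, 8), (16, 10), (17, 6), (19, 6), (20, 8), (22, 15), (23, 18), (24, 10), (26, 13), (27, 25), (28, 21)], [35, 32, 33, 29, 37, 31, 34, 30, 36]),
   (848, 2, [(2, 1), (3, 2), (4, 1), (4, 3), (5, 4), (6, 0), (6, 1), (6, 5), (7, 2), (8, 2), (9, 1), (9, 2), (11, 4), (12, 7), (13, 6), (13, 9), (14, 7), (15, 6), (16, 5), (16, 8), (17, 6), (18, 10), (19, 8), (20, 7), (23, 21), (24, 8), (26, 17), (28, 25), (30, 22), (31, 27), (33, 29), (35, 34), (36, 32)], [42, 43, 45, 41, 39, 40, 37, 38, 44]),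
   (849, 2, [(2, 1), (3, 0), (3, 2), (4, 1), (4, 3), (5, 2), (6, 0), (6, 1), (7, 1), (8, 2), (9, 3), (9, 8), (11, 4), (11, 6), (12, 4), (14, 13), (16, 15), (17, 5), (18, 6), (18, 17), (19, 10), (19, 17), (20, 5), (24, 20), (25, 5), (27, 26), (28, 21), (29, 22), (32, 23), (33, 30), (34, 31), (35, 23)], [39, 40, 41, 42, 36, 43, 38, 37, 44]),
   (858, 2, [(1, 0), (2, 0), (3, 1), (4, 2), (4, 3), (6, 5), (7, 2), (8, 2), (10, 4), (10, 6), (11, 2), (11, 4), (11, 9), (12, 8), (12, 10), (13, 10), (14, 4), (14, 9), (15, 10), (16, 3), (19, 11), (21, 20), (22, 17), (24, 21), (26, 18), (29, 23), (30, 25), (31, 27), (32, 28)], [39, 40, 38, 35, 34, 37, 41, 33, 36]),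
   (880, 2, [(2, 0), (3, 0), (3, 1), (4, 1), (5, 2), (5, 3), (6, 0), (6, 3), (7, 0), (7, 4), (8, 1), (8, 2), (9, 2), (11, 8), (12, 9), (13, 5), (14, 10), (15, 7), (16, 13), (17, 14), (17, 15), (19, 7), (20, 4), (21, 11), (22, 10), (23, 2), (25, 12), (29, 18), (31, 26), (32, 30), (33, 27), (34, 24), (35, 29), (36, 28), (38, 37)], [44, 41, 43, 42, 39, 46, 45, 40, 47]),
   (899, 2, [(1, 0), (2, 0), (3, 0), (3, 1), (4, 1), (4, 2), (5, 3), (6, 4), (7, 2), (10, 0), (10, 5), (11, 0), (11, 9), (13, 8), (14, 10), (15, 14), (17, 3), (18, 10), (19, 11), (20, 12), (23, 21), (24, 8), (25, 16), (28, 22), (29, 26)], [30, 31, 32, 34, 33, 27, 36, 35, 37]),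
   (916, 2, [(1, 0), (2, 0), (2, 1), (3, 0), (3, 1), (3, 2), (4, 0), (4, 1), (4, 2), (5, 1), (5, 2), (5, 3), (9, 8), (10, 0), (11, 8), (14, 1), (14, 9), (15, 10), (16, 10), (17, 12), (18, 11), (19, 3), (19, 9), (20, 6), (21, 6), (23, 4), (24, 21), (26, 18), (27, 13), (30, 25), (33, 31), (35, 28), (36, 34), (37, 22), (38, 32), (39, 29)], [47, 45, 43, 41, 44, 40, 42, 46, 48])]

/-- Part 8 of the orbits. -/
def orbs8 : List (Nat × Nat × List (Nat × Nat) × List Nat) :=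
  [(926, 2, [(1, 0), (2, 0), (2, 1), (3, 1), (3, 2), (4, 0), (4, 2), (5, 0), (6, 1), (6, 5), (9, 0), (9, 7), (9, 8), (11, 0), (11, 9), (13, 9), (13, 11), (14, 12), (15, 10), (16, 8), (17, 5), (18, 6), (18, 16), (19, 9), (20, 3), (21, 10), (22, 11), (29, 24), (30, 23), (32, 28), (34, 29), (35, 27), (36, 31), (37, 25), (38, 26), (39, 33)], [48, 42, 45, 47, 46, 40, 44, 43, 41]),
   (927, 2, [(2, 0), (3, 0), (3, 1), (4, 0), (5, 2), (6, 0), (7, 1), (8, 2), (9, 0), (9, 1), (9, 3), (10, 1), (10, 3), (11, 3), (11, 4), (11, 7), (12, 5), (14, 11), (15, 13), (16, 8), (17, 16), (18, 4), (23, 18), (27, 19), (28, 25), (29, 20), (31, 24), (32, 22), (33, 26), (34, 21)], [36, 38, 35, 40, 39, 41, 37, 30, 42]),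
   (931, 2, [(2, 0), (3, 0), (3, 1), (3, 2), (4, 0), (4, 1), (4, 2), (5, 0), (5, 2), (8, 7), (9, 0), (11, 0), (11, 8), (12, 2), (12, 7), (14, 11), (15, 4), (15, 13), (16, 10), (17, 7), (17, 9), (18, 13), (19, 11), (20, 7), (23, 22), (24, 7), (25, 21), (26, 24), (30, 28), (32, 29), (33, 31), (35, 34), (36, 27)], [41, 44, 45, 42, 40, 43, 39, 37, 38]),
   (933, 2, [(2, 1), (3, 0), (3, 1), (3, 2), (4, 1), (5, 1), (5, 4), (6, 4), (7, 5), (8, 2), (8, 3), (8, 6), (9, 4), (9, 6), (9, 8), (10, 5), (12, 0), (13, 4), (14, 1), (17, 5), (17, 16), (19, 6), (23, 20), (25, 21), (26, 22), (28, 24), (29, 27), (30, 15), (32, 31), (33, 18)], [35, 36, 38, 41, 37, 42, 40, 39, 34]),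
   (960, 2, [(1, 0), (3, 0), (3, 1), (4, 0), (5, 1), (5, 4), (6, 0), (6, 5), (7, 1), (7, 4), (8, 4), (9, 4), (9, 5), (11, 3), (13, 3), (14, 1), (14, 6), (15, 9), (16, 12), (19, 17), (20, 13), (23, 19), (24, 12), (25, 21), (27, 22), (28, 26), (30, 18), (31, 29)], [34, 36, 33, 38, 35, 40, 39, 37, 32]),
   (968, 2, [(2, 0), (3, 0), (3, 1), (4, 1), (4, 2), (5, 2), (5, 3), (6, 0), (6, 3), (6, 4), (8, 1), (8, 2), (9, 6), (10, 3), (10, 7), (12, 1), (13, 4), (15, 9), (16, 6), (16, 7), (17, 14), (19, 16), (20, 8), (20, 19), (21, 8), (22, 19), (24, 5), (31, 23), (32, 28), (33, 25), (34, 27), (35, 18), (36, 29), (37, 26), (38, 30)], [47, 42, 43, 40, 39, 46, 44, 41, 45]),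
   (1019, 1, [(2, 0), (2, 1), (3, 1), (4, 1), (5, 0), (5, 2), (6, 1), (8, 0), (8, 3), (11, 3), (12, 7), (13, 7), (15, 8), (17, 11), (19, 12), (20, 18), (22, 21), (23, 16)], [27, 25, 14, 29, 24, 26, 28, 30]),
   (1024, 2, [(1, 0), (2, 1), (3, 1), (3, 2), (4, 2), (5, 0), (5, 3), (6, 4), (8, 1), (9, 1), (9, 4), (10, 3), (11, 1), (13, 10), (14, 5), (15, 5), (15, 7), (16, 9), (17, 8), (18, 16), (22, 21), (25, 24), (26, 23), (30, 28), (31, 29), (32, 27)], [17, 19, 20, 38, 34, 37, 36, 35, 33]),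
   (1025, 2, [(1, 0), (2, 1), (3, 2), (5, 4), (7, 4), (7, 5), (7, 6), (8, 2), (8, 3), (8, 6), (9, 4), (9, 8), (11, 5), (13, 8), (13, 9), (14, 5), (15, 9), (16, 13), (21, 13), (21, 18), (22, 19), (23, 14), (25, 17), (26, 24), (28, 20), (29, 27)], [32, 31, 34, 38, 35, 37, 36, 30, 33]),
   (1033, 2, [(1, 0), (2, 1), (3, 1), (3, 2), (4, 0), (4, 2), (4, 3), (5, 1), (6, 2), (10, 4), (11, 2), (11, 10), (12, 5), (12, 6), (13, 6), (14, 7), (14, 9), (15, 4), (16, 7), (16, 8), (17, 5), (19, 12), (20, 6), (20, 8), (21, 18), (23, 22), (26, 17), (29, 25), (31, 24), (33, 28), (34, 27), (35, 32), (36, 30)], [43, 42, 44, 38, 41, 39, 45, 40, 37]),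
   (1046, 2, [(2, 0), (3, 0), (3, 1), (3, 2), (5, 3), (6, 4), (7, 1), (7, 5), (8, 2), (8, 6), (9, 3), (11, 5), (11, 8), (12, 6), (13, 3), (14, 7), (14, 12), (15, 7), (16, 10), (19, 17), (21, 18), (23, 20), (26, 24), (27, 25), (30, 29), (31, 28)], [32, 33, 34, 36, 22, 37, 38, 35, 24]),
   (1055, 1, [(1, 0), (2, 0), (3, 2), (5, 3), (6, 4), (7, 5), (8, 6), (11, 0), (11, 10), (12, 1), (12, 10), (13, 2), (13, 8), (13, 11), (15, 5), (19, 14), (20, 17), (22, 18), (23, 16), (24, 21), (25, 15)], [29, 28, 26, 27, 30, 31, 32, 33]),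
   (1075, 2, [(1, 0), (2, 1), (3, 2), (4, 3), (5, 4), (6, 2), (7, 2), (9, 8), (10, 9), (11, 2), (11, 8), (13, 9), (14, 4), (15, 5), (15, 6), (16, 7), (17, 8), (17, 11), (18, 9), (22, 13), (23, 19), (24, 21), (25, 20), (26, 21), (29, 28), (31, 30)], [35, 36, 34, 27, 37, 29, 33, 38, 32]),
   (1159, 2, [(1, 0), (2, 1), (3, 2), (4, 0), (5, 1), (7, 3), (10, 6), (10, 9), (11, 10), (12, 11), (13, 2), (14, 3), (14, 10), (15, 4), (15, 10), (16, 7), (18, 17), (19, 16), (23, 20), (24, 21), (26, 19), (26, 21), (26, 22), (28, 25), (28, 27)], [31, 32, 35, 36, 29, 37, 33, 34, 30]),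
   (1186, 2, [(2, 0), (2, 1), (3, 0), (3, 1), (4, 0), (4, 1), (4, 2), (6, 5), (7, 4), (9, 0), (9, 5), (10, 1), (10, 7), (11, 1), (11, 9), (12, 10), (13, 6), (14, 12), (16, 6), (17, 13), (17, 15), (18, 15), (19, 5), (22, 14), (24, 8), (26, 21), (27, 25), (31, 29), (32, 20), (33, 30), (34, 28), (35, 23)], [41, 40, 42, 44, 39, 43, 38, 36, 37]),
   (1188, 2, [(2, 0), (3, 0), (3, 1), (4, 0), (4, 1), (4, 2), (5, 3), (7, 1), (9, 4), (10, 1), (10, 2), (10, 3), (11, 5), (13, 8), (14, 1), (15, 7), (15, 9), (16, 8), (18, 5), (18, 8), (18, 10), (19, 9), (22, 17), (23, 21), (24, 20), (27, 17), (28, 26), (30, 23), (31, 25), (32, 29), (34, 33)], [39, 42, 43, 38, 41, 40, 36, 37, 35]),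
   (1193, 2, [(2, 0), (3, 0), (3, 1), (4, 0), (4, 1), (4, 2), (5, 0), (5, 1), (6, 0), (6, 1), (8, 2), (11, 4), (12, 2), (12, 6), (12, 7), (15, 13), (16, 11), (18, 15), (19, 12), (19, 13), (19, 14), (20, 12), (21, 7), (22, 10), (22, 12), (24, 7), (26, 23), (27, 19), (30, 29), (31, 17), (33, 25), (34, 28), (36, 35), (37, 32)], [45, 42, 41, 43, 44, 46, 40, 39, 38]),
   (1200, 2, [(1, 0), (2, 0), (3, 0), (3, 1), (4, 1), (4, 2), (5, 0), (5, 3), (7, 0), (7, 4), (8, 7), (11, 0), (11, 4), (13, 8), (13, 9), (13, 12), (14, 6), (15, 5), (15, 12), (16, 8), (18, 15), (19, 17), (20, 11), (21, 19), (26, 22), (27, 24), (29, 25), (30, 23), (32, 31), (34, 28)], [40, 39, 38, 35, 33, 36, 42, 41, 37]),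
   (1210, 2, [(2, 0), (4, 0), (4, 3), (5, 0), (5, 1), (6, 2), (7, 2), (8, 3), (9, 1), (9, 4), (10, 1), (10, 3), (10, 5), (11, 4), (11, 5), (12, 5), (14, 13), (15, 5), (19, 16), (20, 14), (21, 19), (22, 17), (25, 18), (26, 24), (27, 23), (30, 29)], [32, 34, 35, 36, 31, 37, 28, 38, 33]),
   (1234, 2, [(1, 0), (2, 0), (2, 1), (3, 1), (4, 0), (4, 1), (5, 1), (6, 3), (7, 6), (8, 5), (9, 0), (9, 4), (10, 2), (10, 7), (11, 3), (13, 2), (13, 8), (14, 12), (15, 7), (16, 2), (17, 13), (22, 21), (25, 17), (26, 20), (27, 19), (27, 23), (29, 18), (30, 28), (31, 24), (33, 32)], [35, 37, 38, 39, 34, 40, 36, 42, 41]),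
   (1248, 2, [(2, 0), (3, 0), (4, 0), (4, 1), (4, 2), (7, 5), (8, 3), (9, 4), (10, 5), (10, 7), (12, 1), (12, 7), (13, 6), (14, 1), (15, 11), (16, 8), (17, 9), (19, 6), (20, 7), (21, 8), (25, 18), (25, 24), (26, 24), (27, 23), (28, 22), (29, 25)], [30, 31, 32, 38, 34, 37, 33, 35, 36]),
   (1330, 2, [(1, 0), (2, 1), (3, 0), (4, 0), (4, 3), (5, 1), (8, 7), (9, 2), (9, 3), (10, 4), (12, 3), (13, 10), (14, 4), (14, 9), (15, 10), (16, 7), (17, 6), (17, 13), (18, 8), (18, 15), (22, 21), (24, 19), (26, 16), (27, 25), (28, 23), (30, 20), (31, 16), (32, 29)], [40, 37, 39, 38, 36, 35, 34, 33, 21]),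
   (1358, 1, [(3, 1), (4, 2), (5, 4), (8, 0), (8, 3), (8, 5), (8, 7), (9, 1), (9, 4), (10, 2), (11, 0), (11, 1), (16, 13), (17, 10), (20, 14), (21, 11), (22, 18), (23, 15), (24, 6)], [28, 27, 31, 19, 25, 26, 30, 29]),
   (1376, 3, [], []),
   (1395, 3, [], []),
   (1427, 2, [(2, 1), (3, 0), (3, 2), (4, 1), (4, 2), (4, 3), (5, 0), (5, 2), (5, 3), (5, 4), (6, 1), (6, 5), (8, 2), (8, 4), (9, 1), (10, 3), (11, 7), (12, 4), (15, 6), (16, 8), (18, 13), (19, 11), (20, 14), (21, 13), (22, 6), (23, 20), (24, 18), (27, 17), (28, 27), (29, 26), (32, 31), (35, 30), (37, 33), (38, 34), (39, 25)], [45, 46, 44, 47, 42, 43, 41, 36, 40]),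
   (1537, 2, [(2, 1), (3, 1), (4, 0), (4, 2), (5, 0), (5, 3), (6, 4), (7, 0), (8, 1), (8, 3), (9, 0), (11, 5), (12, 5), (12, 8), (13, 5), (14, 6), (14, 11), (15, 14), (16, 14), (17, 12), (18, 16), (19, 18), (24, 21), (26, 20), (27, 23), (28, 22), (30, 25), (32, 29)], [31, 33, 34, 39, 40, 38, 37, 36, 35]),
   (1539, 2, [(1, 0), (2, 0), (3, 2), (4, 3), (5, 0), (5, 4), (6, 2), (6, 5), (7, 6), (8, 3), (8, 4), (9, 8), (11, 1), (13, 11), (14, 4), (15, 11), (18, 15), (19, 17), (20, 16), (21, 18), (22, 19), (23, 14), (25, 8), (26, 24), (28, 27)], [29, 31, 32, 33, 35, 30, 36, 34, 37]),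
   (1540, 2, [(3, 1), (4, 2), (6, 1), (7, 2), (7, 3), (7, 4), (7, 6), (8, 0), (8, 3), (9, 3), (9, 4), (10, 4), (11, 0), (11, 6), (12, 1), (12, 10), (14, 13), (17, 15), (22, 18), (24, 21), (25, 21), (27, 20), (27, 23), (28, 16), (28, 26), (29, 19)], [36, 33, 35, 37, 32, 34, 30, 31, 38]),
   (1576, 2, [(2, 1), (3, 0), (3, 1), (4, 2), (5, 2), (5, 3), (6, 1), (7, 2), (7, 5), (8, 1), (8, 6), (8, 7), (9, 7), (10, 0), (13, 6), (13, 9), (14, 10), (15, 11), (16, 8), (17, 3), (19, 18), (26, 22), (27, 24), (30, 20), (32, 31), (33, 29)], [21, 23, 25, 38, 34, 36, 37, 35, 28])]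

end Cfsg.Agent.Fus.M23U
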