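import Cfsg.Agent.Lib.Fus.M22U.Thirteen.Checks
import Cfsg.Agent.Lib.Fus.M23U.Data

/-! Checks on the orbits of an element of order thirteen of Fi22. -/

set_option autoImplicit false
set_option maxRecDepth 100000
set_option maxHeartbeats 4000000

namespace Cfsg.Agent.Fus.M23U

open Cfsg.Agent.Spor.Cos Cfsg.Agent.Spor.Cos.Fi22
open Cfsg.Agent.Fus.M22U.Thirteen (trWord genWords)

/-- Iterates of the element at a point. -/
noncomputable def it : ℕ → ℕ → ℕ
  | 0, q => q
  | i + 1, q => actB.go xw (it i q)

/-- An orbit. -/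
noncomputable def orbit (q : ℕ) : List ℕ := (List.range 13).map fun i => it i q

/-- The flip of the diagram. -/
def flip (n : ℕ) : ℕ := [6, 5, 4, 3, 2, 1, 0, 7, 8].getD n n

/-- The word moving the first point to a member of a configuration. -/
def cw (k i : ℕ) : List ℕ := if k = 1 then hw ++ genWords.getD (flip i) [] else genWords.getD i []

/-- The point of a member of a configuration. -/
noncomputable def cp (k i : ℕ) : ℕ := actB.go (cw k i) 0

/-- The members that are wanted. -/
def wanted (k : ℕ) : List ℕ := if k = 2 then List.range 9 else [0, 1, 2, 3, 4, 5, 7, 8]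

/-- Points generated from earlier ones. -/
noncomputable def derived (d0 : ℕ) : List (ℕ × ℕ) → List ℕ → List ℕ
  | [], L => L
  | (i, j) :: r, L => derived d0 r (L ++ [actB.go (trWord (L.getD i d0)) (L.getD j d0)])

/-- An orbit lies in the two small pieces, or generates the members wanted. -/
noncomputable def orbitOk (o : ℕ × ℕ × List (ℕ × ℕ) × List ℕ) : Bool :=
  Nat.blt o.1 3510 && bif Nat.beq o.2.1 3 then
    ((orbit o.1).all fun q => uList.any (Nat.beq q)) &&
      Nat.blt (uList.countP fun v => Nat.beq (actB.go (trWord o.1) v) v) 126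
  else (Nat.blt o.2.1 3 && Nat.beq o.2.2.2.length (wanted o.2.1).length &&
    (List.range (wanted o.2.1).length).all fun t =>
      Nat.beq ((derived o.1 o.2.2.1 (orbit o.1)).getD (o.2.2.2.getD t 0) o.1)
        (cp o.2.1 ((wanted o.2.1).getD t 0)))

theorem orbs0_ok : orbs0.all orbitOk = true := by decide +kernel
theorem orbs1_ok : orbs1.all orbitOk = true := by decide +kernel
theorem orbs2_ok : orbs2.all orbitOk = true := by decide +kernel
theorem orbs3_ok : orbs3.all orbitOk = true := by decide +kernel
theorem orbs4_ok : orbs4.all orbitOk = true := by decide +kernel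
theorem orbs5_ok : orbs5.all orbitOk = true := by decide +kernel
theorem orbs6_ok : orbs6.all orbitOk = true := by decide +kernel
theorem orbs7_ok : orbs7.all orbitOk = true := by decide +kernel
theorem orbs8_ok : orbs8.all orbitOk = true := by decide +kernel

/-- All orbits. -/
def orbs : List (ℕ × ℕ × List (ℕ × ℕ) × List ℕ) :=
  orbs0 ++ orbs1 ++ orbs2 ++ orbs3 ++ orbs4 ++ orbs5 ++ orbs6 ++ orbs7 ++ orbs8

/-- A set of numbers as bits. -/
def bits (l : List ℕ) : ℕ := l.foldl (fun s q => s ||| (1 <<< q)) 0

theorem cover_ok : Nat.beq (bits (orbs.flatMap fun o => orbit o.1)) (2 ^ 3510 - 1) = true := by decide +kernel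

theorem conf_ok : ((List.range 2).all fun k => (List.range 9).all fun i =>
    ((cw k i).all fun s => Nat.blt s 9) && (List.range 9).all fun j =>
      (Nat.beq i j || !(Nat.beq (cp k i) (cp k j))) &&
      (Nat.beq (actB.go (trWord (cp k i)) (cp k j)) (cp k j) ==
        !([(0, 1), (1, 2), (2, 3), (3, 4), (3, 7), (4, 5), (5, 6), (7, 8)].any fun e =>
          (Nat.beq e.1 i && Nat.beq e.2 j) || (Nat.beq e.1 j && Nat.beq e.2 i)))) = true := by decide +kernel

theorem flip_A_ok : chkPow actA [0, 1, 2, 3, 67, 4, 5, 23] 9 ([0, 1, 2, 3, 4, 5, 7].map flip) = true := by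
  decide +kernel

theorem flip_S_ok : chkPow actA [0, 1, 2, 3, 67, 4, 5, 23] 10 ([3, 2, 1, 3, 4, 5, 3, 7, 8].map flip) = true := by
  decide +kernel

theorem plain_A_ok : chkPow actA [0, 1, 2, 3, 67, 4, 5, 23] 9 [0, 1, 2, 3, 4, 5, 7] = true := by decide +kernel

theorem plain_S_ok : chkPow actA [0, 1, 2, 3, 67, 4, 5, 23] 10 [3, 2, 1, 3, 4, 5, 3, 7, 8] = true := by
  decide +kernel

theorem xw_pow_ok : chkPow actA [0, 1, 2, 3, 67, 4, 5, 23] 13 xw = true := by decide +kernel

theorem xw_ne_ok : Nat.beq (it 1 0) 0 = false := by decide +kernel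

theorem xw_letters : Act.lettersOk 9 [xw, hw] = true := by decide +kernel

end Cfsg.Agent.Fus.M23U
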