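import Cfsg.Agent.Lib.Fus.M22U.Thirteen.Main
import Cfsg.Agent.Lib.Fus.M23U.Checks

/-! Closed sets of transpositions of Fi22 invariant under an element of order thirteen. -/

set_option autoImplicit false
set_option linter.style.haveILetI false
set_option maxRecDepth 20000

open Cfsg.Spor

namespace Cfsg.Agent.Fus.M23U

open Cfsg.Agent.Spor.Cos Cfsg.Agent.Spor.Cos.Fi22
open Cfsg.Agent.Fus.M22U.Thirteen (trWord genWords wordPt wordPt_spec tp tp_equivariant fixed_iff ev_trWord trWord_lt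
  gen_word zero_lt)

/-- The element. -/
noncomputable def x13 : Spor.Fi22 := ev g xw

/-- A member of a configuration. -/
noncomputable def conf (k i : ℕ) : Spor.Fi22 := ev g (cw k i) * tz * (ev g (cw k i))⁻¹

/-- The conjugating element of a configuration. -/
noncomputable def mover (k : ℕ) : Spor.Fi22 := if k = 1 then ev g hw else 1

/-- The letter of a member. -/
def letter (k i : ℕ) : ℕ := if k = 1 then flip i else i

/-- Edges of the diagram. -/
def edgeOf (i j : ℕ) : Bool :=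
  [(0, 1), (1, 2), (2, 3), (3, 4), (3, 7), (4, 5), (5, 6), (7, 8)].any fun e =>
    (Nat.beq e.1 i && Nat.beq e.2 j) || (Nat.beq e.1 j && Nat.beq e.2 i)

theorem xw_lt : ∀ s ∈ xw, s < 9 := Act.lt_of_lettersOk xw_letters (by simp)

theorem hw_lt : ∀ s ∈ hw, s < 9 := Act.lt_of_lettersOk xw_letters (by simp)

theorem x13_pow : x13 ^ 13 = 1 := pow_eq_one homA det xw_lt xw_pow_ok

/-- The iterate as a point. -/
theorem it_eq (p : Fin actB.N) : ∀ i, ((piB (x13 ^ i) p : Fin actB.N) : ℕ) = it i p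
  | 0 => by simp [it]
  | i + 1 => by
    rw [pow_succ', map_mul, Equiv.Perm.mul_apply, x13, homB.apply_ev _ xw_lt]
    exact congrArg (actB.go xw) (it_eq p i)

theorem orderOf_x13 : orderOf x13 = 13 := by
  haveI : Fact (Nat.Prime 13) := ⟨by norm_num⟩
  refine orderOf_eq_prime x13_pow fun h => ?_
  have e := it_eq ⟨0, zero_lt⟩ 1
  rw [pow_one, h, map_one] at e
  exact Nat.ne_of_beq_eq_false xw_ne_ok e.symm

theorem flip_lt {i : ℕ} (hi : i < 9) : flip i < 9 := by interval_cases i <;> decide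

theorem letter_lt (k : ℕ) {i : ℕ} (hi : i < 9) : letter k i < 9 := by
  unfold letter
  split <;> [exact flip_lt hi; exact hi]

theorem cw_lt (k : ℕ) {i : ℕ} (hi : i < 9) : ∀ s ∈ cw k i, s < 9 := by
  intro s hs
  unfold cw at hs
  split at hs
  · rcases List.mem_append.1 hs with hs | hs
    exacts [hw_lt s hs, (gen_word _ (flip_lt hi)).1 s hs]
  · exact (gen_word _ hi).1 s hs

theorem conf_eq (k : ℕ) {i : ℕ} (hi : i < 9) : conf k i = mover k * g (letter k i) * (mover k)⁻¹ := by
  unfold conf cw mover letter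
  split
  · rw [ev_append, ← (gen_word _ (flip_lt hi)).2]
    group
  · rw [one_mul, inv_one, mul_one, (gen_word _ hi).2]

theorem cp_lt (k : ℕ) {i : ℕ} (hi : i < 9) : cp k i < actB.N :=
  lt_of_eq_of_lt (homB.apply_ev _ (cw_lt k hi) ⟨0, zero_lt⟩).symm (piB (ev g (cw k i)) ⟨0, zero_lt⟩).2

/-- A member as the transposition of its point. -/
theorem tp_cp (k : ℕ) {i : ℕ} (hi : i < 9) : tp ⟨cp k i, cp_lt k hi⟩ = conf k i := by
  obtain ⟨v, hv⟩ : ∃ v, v = ev g (wordPt (baseB : ℕ)) := ⟨_, rfl⟩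
  have hb : tp baseB = tz := by
    have h := (wordPt_spec baseB).2
    rw [tp, (Cfsg.Agent.Fus.M22U.Thirteen.commute_tz h).eq, mul_inv_cancel_right]
  have e : piB (ev g (cw k i)) baseB = ⟨cp k i, cp_lt k hi⟩ :=
    Fin.ext (homB.apply_ev _ (cw_lt k hi) baseB)
  rw [← tp_equivariant e, hb, conf]

theorem go_tr (p q : Fin actB.N) : actB.go (trWord p) q = ((piB (tp p) q : Fin actB.N) : ℕ) := by
  rw [← ev_trWord]
  exact (homB.apply_ev _ (trWord_lt p) q).symm

theorem conf_rel {k : ℕ} (hk : k < 2) {i j : ℕ} (hi : i < 9) (hj : j < 9) :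
    (Commute (conf k i) (conf k j) ↔ edgeOf i j = false) ∧ (conf k i = conf k j → i = j) := by
  have h := conf_ok
  simp only [List.all_eq_true, List.mem_range, Bool.and_eq_true, beq_iff_eq, Bool.or_eq_true, Nat.beq_eq,
    Bool.not_eq_true'] at h
  obtain ⟨hne, hadj⟩ := (h k hk i hi).2 j hj
  have hfix : piB (tp ⟨cp k i, cp_lt k hi⟩) ⟨cp k j, cp_lt k hj⟩ = ⟨cp k j, cp_lt k hj⟩ ↔
      Commute (conf k i) (conf k j) := by
    rw [fixed_iff, tp_cp k hi, tp_cp k hj]
  have hcomm : Commute (conf k i) (conf k j) ↔ edgeOf i j = false := by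
    rw [← hfix, Fin.ext_iff, ← go_tr]
    show actB.go (trWord (cp k i)) (cp k j) = cp k j ↔ _
    constructor
    · intro e
      have e' : Nat.beq (actB.go (trWord (cp k i)) (cp k j)) (cp k j) = true := by rw [e]; exact Nat.beq_refl _
      have k' := hadj.symm.trans e'
      exact (Bool.not_eq_true' _).mp k'
    · intro e
      refine Nat.eq_of_beq_eq_true (hadj.trans ?_)
      exact (Bool.not_eq_true' _).mpr e
  refine ⟨hcomm, fun e => ?_⟩
  by_contra hij
  refine Nat.ne_of_beq_eq_false (hne.resolve_left hij) ?_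
  have h1 : piB (ev g (cw k i)) baseB = ⟨cp k i, cp_lt k hi⟩ := Fin.ext (homB.apply_ev _ (cw_lt k hi) baseB)
  have h2 : piB (ev g (cw k j)) baseB = ⟨cp k j, cp_lt k hj⟩ := Fin.ext (homB.apply_ev _ (cw_lt k hj) baseB)
  have hu : Commute ((ev g (cw k i))⁻¹ * ev g (cw k j)) tz := by
    have e' : ev g (cw k i) * tz * (ev g (cw k i))⁻¹ = ev g (cw k j) * tz * (ev g (cw k j))⁻¹ := e
    show _ = _
    calc (ev g (cw k i))⁻¹ * ev g (cw k j) * tz =
          (ev g (cw k i))⁻¹ * (ev g (cw k j) * tz * (ev g (cw k j))⁻¹) * ev g (cw k j) := by group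
      _ = tz * ((ev g (cw k i))⁻¹ * ev g (cw k j)) := by rw [← e']; group
  have h3 := Cfsg.Agent.Fus.M22U.Thirteen.stab_of_commute hu
  rw [map_mul, Equiv.Perm.mul_apply, h2, map_inv, Equiv.Perm.inv_eq_iff_eq, h1] at h3
  exact (congrArg Fin.val h3).symm

/-- A word in a configuration. -/
theorem ev_conf (k : ℕ) : ∀ w : List ℕ, (∀ s ∈ w, s < 9) →
    ev (conf k) w = mover k * ev g (w.map (letter k)) * (mover k)⁻¹
  | [], _ => by simp [ev]
  | s :: w, h => by
    simp only [ev, List.map_cons, ev_conf k w fun t ht => h t (List.mem_cons_of_mem _ ht),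
      conf_eq k (h s List.mem_cons_self)]
    group

/-- The two relations hold in both configurations. -/
theorem relators (k : ℕ) : ev (conf k) [0, 1, 2, 3, 4, 5, 7] ^ 9 = 1 ∧
    ev (conf k) [3, 2, 1, 3, 4, 5, 3, 7, 8] ^ 10 = 1 := by
  have key : ∀ (w : List ℕ) (p : ℕ), (∀ s ∈ w, s < 9) → ev g (w.map (letter k)) ^ p = 1 → ev (conf k) w ^ p = 1 :=
    fun w p hw' h => by rw [ev_conf k w hw', conj_pow, h, mul_one, mul_inv_cancel]
  by_cases hk : k = 1
  · subst hk
    refine ⟨key _ _ (by decide) (pow_eq_one homA det (by decide) flip_A_ok),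
      key _ _ (by decide) (pow_eq_one homA det (by decide) flip_S_ok)⟩
  · have e : letter k = id := by funext i; simp [letter, hk]
    refine ⟨key _ _ (by decide) ?_, key _ _ (by decide) ?_⟩ <;> rw [e, List.map_id]
    exacts [pow_eq_one homA det (by decide) plain_A_ok, pow_eq_one homA det (by decide) plain_S_ok]

/-- A configuration generates. -/
theorem closure_conf (k : ℕ) : Subgroup.closure {y | ∃ i < 9, conf k i = y} = ⊤ := by
  have hsurj : ∀ s < 9, ∃ i < 9, letter k i = s := fun s hs => by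
    refine ⟨letter k s, letter_lt k hs, ?_⟩
    unfold letter
    split <;> [skip; rfl]
    interval_cases s <;> rfl
  rw [eq_top_iff]
  intro y _
  have hle : (⊤ : Subgroup Spor.Fi22) ≤
      (Subgroup.closure {y | ∃ i < 9, conf k i = y}).comap (MulAut.conj (mover k)).toMonoidHom := by
    rw [← g_gen, Subgroup.closure_le]
    rintro _ ⟨s, hs, rfl⟩
    obtain ⟨i, hi, rfl⟩ := hsurj s hs
    exact Subgroup.subset_closure ⟨i, hi, conf_eq k hi⟩
  have := hle (Subgroup.mem_top ((MulAut.conj (mover k))⁻¹ y))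
  simpa [mul_assoc] using this

/-- The points of a list read as bits. -/
theorem mem_of_bits {l : List ℕ} : ∀ {q : ℕ}, (bits l).testBit q = true → q ∈ l := by
  have key : ∀ (l : List ℕ) (s q : ℕ), (l.foldl (fun s q => s ||| (1 <<< q)) s).testBit q = true →
      s.testBit q = true ∨ q ∈ l := by
    intro l
    induction l with
    | nil => exact fun s q h => Or.inl h
    | cons a l ih =>
      intro s q h
      rcases ih _ q h with k | k
      · rw [Nat.testBit_or, Bool.or_eq_true] at k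
        rcases k with k | k
        · exact Or.inl k
        · rw [Nat.one_shiftLeft, Nat.testBit_two_pow] at k
          exact Or.inr ((of_decide_eq_true k) ▸ List.mem_cons_self)
      · exact Or.inr (List.mem_cons_of_mem _ k)
  intro q h
  exact (key l 0 q h).resolve_left (by simp)

/-- Every point is on a checked orbit. -/
theorem exists_orbit (q : Fin actB.N) : ∃ o ∈ orbs, orbitOk o = true ∧ (q : ℕ) ∈ orbit o.1 := by
  have hb : (bits (orbs.flatMap fun o => orbit o.1)).testBit q = true := by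
    rw [Nat.eq_of_beq_eq_true cover_ok, Nat.testBit_two_pow_sub_one]
    exact decide_eq_true q.2
  obtain ⟨o, ho, hq⟩ := List.mem_flatMap.1 (mem_of_bits hb)
  refine ⟨o, ho, ?_, hq⟩
  simp only [orbs, List.mem_append] at ho
  rcases ho with (((((((ho | ho) | ho) | ho) | ho) | ho) | ho) | ho) | ho
  exacts [List.all_eq_true.1 orbs0_ok o ho, List.all_eq_true.1 orbs1_ok o ho, List.all_eq_true.1 orbs2_ok o ho,
    List.all_eq_true.1 orbs3_ok o ho, List.all_eq_true.1 orbs4_ok o ho, List.all_eq_true.1 orbs5_ok o ho,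
    List.all_eq_true.1 orbs6_ok o ho, List.all_eq_true.1 orbs7_ok o ho, List.all_eq_true.1 orbs8_ok o ho]

/-- A closed invariant set in which every point has many fixed points contains one of three configurations. -/
theorem three_cases (W : Set (Fin actB.N)) (hne : W.Nonempty) (hclosed : ∀ p ∈ W, ∀ q ∈ W, piB (tp p) q ∈ W)
    (hinv : ∀ p ∈ W, piB x13 p ∈ W) (hdeg : ∀ p ∈ W, 126 ≤ {q | q ∈ W ∧ piB (tp p) q = q}.ncard) :
    ∃ k < 3, ∀ i < 9, (i ≠ 6 ∨ k = 2) → ∃ h : cp k i < actB.N, (⟨cp k i, h⟩ : Fin actB.N) ∈ W := by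
  classical
  have hpow : ∀ p ∈ W, ∀ i, piB (x13 ^ i) p ∈ W := by
    intro p hp i
    induction i with
    | zero => simpa using hp
    | succ i ih => rw [pow_succ', map_mul, Equiv.Perm.mul_apply]; exact hinv _ ih
  -- a point lies with the whole orbit
  have horb : ∀ p ∈ W, ∀ o : ℕ × ℕ × List (ℕ × ℕ) × List ℕ, orbitOk o = true → (p : ℕ) ∈ orbit o.1 →
      ∀ a ∈ orbit o.1, ∃ h : a < actB.N, (⟨a, h⟩ : Fin actB.N) ∈ W := by
    intro p hp o ho hpo a ha
    have h0 : o.1 < actB.N := by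
      simp only [orbitOk, Bool.and_eq_true] at ho
      exact Nat.le_of_ble_eq_true ho.1
    obtain ⟨i, hi, hip⟩ := List.mem_map.1 hpo
    obtain ⟨j, -, rfl⟩ := List.mem_map.1 ha
    rw [List.mem_range] at hi
    have e : piB (x13 ^ (13 - i + j)) p = piB (x13 ^ j) ⟨o.1, h0⟩ := by
      have hp' : p = piB (x13 ^ i) ⟨o.1, h0⟩ := Fin.ext (by rw [it_eq]; exact hip.symm)
      rw [hp', ← Equiv.Perm.mul_apply, ← map_mul, ← pow_add, show 13 - i + j + i = 13 + j by omega, pow_add,
        x13_pow, one_mul]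
    refine ⟨lt_of_eq_of_lt (it_eq ⟨o.1, h0⟩ j).symm (piB (x13 ^ j) ⟨o.1, h0⟩).2, ?_⟩
    have e' : (⟨it j o.1, lt_of_eq_of_lt (it_eq ⟨o.1, h0⟩ j).symm (piB (x13 ^ j) ⟨o.1, h0⟩).2⟩ : Fin actB.N) =
        piB (x13 ^ (13 - i + j)) p := Fin.ext ((congrArg Fin.val e).trans (it_eq _ j)).symm
    rw [e']
    exact hpow p hp _
  -- some point is outside the small pieces
  obtain ⟨p, hp, o, ho, hpo, hkind⟩ : ∃ p ∈ W, ∃ o, orbitOk o = true ∧ (p : ℕ) ∈ orbit o.1 ∧
      Nat.beq o.2.1 3 = false := by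
    by_contra hno
    push Not at hno
    have hU : ∀ q ∈ W, (q : ℕ) ∈ uList := by
      intro q hq
      obtain ⟨o, -, ho, hqo⟩ := exists_orbit q
      have hk : Nat.beq o.2.1 3 = true := Bool.eq_true_of_not_eq_false (hno q hq o ho hqo)
      simp only [orbitOk, hk, cond_true, Bool.and_eq_true, List.all_eq_true, List.any_eq_true] at ho
      obtain ⟨x, hx, e⟩ := ho.2.1 _ hqo
      exact Nat.eq_of_beq_eq_true e ▸ hx
    obtain ⟨p, hp⟩ := hne
    obtain ⟨o, -, ho, hpo⟩ := exists_orbit p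
    have hk : Nat.beq o.2.1 3 = true := Bool.eq_true_of_not_eq_false (hno p hp o ho hpo)
    have h0 : o.1 ∈ orbit o.1 := List.mem_map.2 ⟨0, List.mem_range.2 (by norm_num), rfl⟩
    obtain ⟨hlt, hmem⟩ := horb p hp o ho hpo _ h0
    simp only [orbitOk, hk, cond_true, Bool.and_eq_true] at ho
    have hcnt := Nat.le_of_ble_eq_true ho.2.2
    have h1 := hdeg _ hmem
    let F : List ℕ := uList.filter fun v => Nat.beq (actB.go (trWord o.1) v) v
    have h2 : {q | q ∈ W ∧ piB (tp (⟨o.1, hlt⟩ : Fin actB.N)) q = q}.ncard ≤ F.toFinset.card := by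
      rw [← Set.ncard_coe_finset]
      refine Set.ncard_le_ncard_of_injOn (fun q : Fin actB.N => (q : ℕ)) ?_ (fun a _ b _ e => Fin.ext e)
      rintro q ⟨hq, e⟩
      simp only [Finset.mem_coe, List.mem_toFinset, F, List.mem_filter]
      refine ⟨hU q hq, ?_⟩
      rw [show o.1 = ((⟨o.1, hlt⟩ : Fin actB.N) : ℕ) from rfl, go_tr, e]
      exact Nat.beq_refl _
    have h3 := List.toFinset_card_le F
    rw [show F.length = uList.countP (fun v => Nat.beq (actB.go (trWord o.1) v) v) from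
      (List.countP_eq_length_filter ..).symm] at h3
    omega
  have ho0 := ho
  simp only [orbitOk, hkind, cond_false, Bool.and_eq_true, List.all_eq_true, List.mem_range] at ho
  obtain ⟨hlt, ⟨hk3, -⟩, hder⟩ := ho
  have h0 : o.1 < actB.N := Nat.le_of_ble_eq_true hlt
  have hk : o.2.1 < 3 := Nat.le_of_ble_eq_true hk3
  have hall : ∀ (d : List (ℕ × ℕ)) (L : List ℕ), (∀ a ∈ L, ∃ h : a < actB.N, (⟨a, h⟩ : Fin actB.N) ∈ W) →
      (∃ h : o.1 < actB.N, (⟨o.1, h⟩ : Fin actB.N) ∈ W) →
      ∀ a ∈ derived o.1 d L, ∃ h : a < actB.N, (⟨a, h⟩ : Fin actB.N) ∈ W := by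
    intro d
    induction d with
    | nil => exact fun L hL _ => hL
    | cons e d ih =>
      intro L hL hs
      obtain ⟨i, j⟩ := e
      refine ih _ ?_ hs
      intro a ha
      rcases List.mem_append.1 ha with ha | ha
      · exact hL a ha
      rw [List.mem_singleton.1 ha]
      have get : ∀ k, ∃ h : L.getD k o.1 < actB.N, (⟨L.getD k o.1, h⟩ : Fin actB.N) ∈ W := fun k => by
        by_cases hk : k < L.length
        · rw [List.getD_eq_getElem _ _ hk]; exact hL _ (List.getElem_mem hk)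
        · rw [List.getD_eq_default _ _ (not_lt.1 hk)]; exact hs
      obtain ⟨hi, mi⟩ := get i
      obtain ⟨hj, mj⟩ := get j
      have e := go_tr ⟨_, hi⟩ ⟨_, hj⟩
      refine ⟨lt_of_eq_of_lt e (piB (tp ⟨_, hi⟩) ⟨_, hj⟩).2, ?_⟩
      rw [show (⟨_, lt_of_eq_of_lt e (piB (tp ⟨_, hi⟩) ⟨_, hj⟩).2⟩ : Fin actB.N) = piB (tp ⟨_, hi⟩) ⟨_, hj⟩ from
        Fin.ext e]
      exact hclosed _ mi _ mj
  have horbit := horb p hp o ho0 hpo
  have hs := horbit o.1 (List.mem_map.2 ⟨0, List.mem_range.2 (by norm_num), rfl⟩)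
  refine ⟨o.2.1, hk, fun i hi hwant => ?_⟩
  obtain ⟨t, ht, rfl⟩ : ∃ t < (wanted o.2.1).length, (wanted o.2.1).getD t 0 = i := by
    have hm : i ∈ wanted o.2.1 := by
      unfold wanted
      split
      · exact List.mem_range.2 hi
      · rename_i h2
        have := hwant.resolve_right h2
        interval_cases i <;> first | decide | omega
    obtain ⟨t, ht, e⟩ := List.getElem_of_mem hm
    exact ⟨t, ht, by rw [List.getD_eq_getElem _ _ ht, e]⟩
  rw [← Nat.eq_of_beq_eq_true (hder t ht)]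
  generalize o.2.2.2.getD t 0 = n
  by_cases hn : n < (derived o.1 o.2.2.1 (orbit o.1)).length
  · rw [List.getD_eq_getElem _ _ hn]
    exact hall _ _ horbit hs _ (List.getElem_mem hn)
  · rw [List.getD_eq_default _ _ (not_lt.1 hn)]
    exact hs

end Cfsg.Agent.Fus.M23U
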