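import Cfsg.Agent.Lib.Fus.M22U.Model
import Cfsg.Agent.Lib.Fus.M23U.Points
import Cfsg.Agent.Lib.Spor.Cos.Fi23.IsSimple
import Cfsg.Agent.Lib.Block.FischerTypes.M23Structure
import Cfsg.Agent.Lib.Block.FischerTypes.M23Order

/-! A group of type M(23) is the presented Fischer group Fi23. -/

set_option autoImplicit false
set_option linter.style.haveILetI false
set_option maxRecDepth 20000
set_option maxHeartbeats 1000000

open Cfsg.Spor

namespace Cfsg.Agent.Fus.M23U

open Cfsg Cfsg.Agent.Spor.ThreeTrans Cfsg.Agent.Block.FischerTypes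
open scoped commutatorElement
open Cfsg.Agent.Spor.Cos (ev)
open Cfsg.Agent.Spor.Cos.Fi22 (piB actB tz baseB)
open Cfsg.Agent.Fus.M22U.Thirteen (tp tp_equivariant fixed_iff wordPt wordPt_spec)

theorem tz_eq : tz = Cfsg.Agent.Spor.Cos.Fi22.g 0 := by simp [tz, ev]

theorem tp_mem (p : Fin actB.N) : tp p ∈ conjugatesOf tz := _root_.isConj_iff.2 ⟨_, rfl⟩

theorem exists_tp {x : Spor.Fi22} (hx : x ∈ conjugatesOf tz) : ∃ p, tp p = x := by
  obtain ⟨c, rfl⟩ := _root_.isConj_iff.1 (show _root_.IsConj tz x from hx)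
  refine ⟨piB c baseB, ?_⟩
  have hb : tp baseB = tz := by
    have h := (wordPt_spec baseB).2
    rw [tp, (Cfsg.Agent.Fus.M22U.Thirteen.commute_tz h).eq, mul_inv_cancel_right]
  rw [← tp_equivariant (y := c) (p := baseB) rfl, hb]

theorem tp_injective {p q : Fin actB.N} (h : tp p = tp q) : p = q := by
  have hp := (wordPt_spec p).2
  have hq := (wordPt_spec q).2
  obtain ⟨u, hu⟩ : ∃ u, u = ev Cfsg.Agent.Spor.Cos.Fi22.g (wordPt p) := ⟨_, rfl⟩
  obtain ⟨v, hv⟩ : ∃ v, v = ev Cfsg.Agent.Spor.Cos.Fi22.g (wordPt q) := ⟨_, rfl⟩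
  rw [tp, tp, ← hu, ← hv] at h
  have hc : Commute (u⁻¹ * v) tz := by
    show _ = _
    calc u⁻¹ * v * tz = u⁻¹ * (v * tz * v⁻¹) * v := by group
      _ = tz * (u⁻¹ * v) := by rw [← h]; group
  have h3 := Cfsg.Agent.Fus.M22U.Thirteen.stab_of_commute hc
  rw [← hu] at hp
  rw [← hv] at hq
  rw [map_mul, Equiv.Perm.mul_apply, hq, map_inv, Equiv.Perm.inv_eq_iff_eq, hp] at h3
  exact h3.symm

theorem label : ∀ x y : Spor.Fi23.Gen, Spor.coxLabel Spor.Fi23.edges x y =
    cond (Nat.beq (Cfsg.Agent.Spor.Cos.Fi23.num x) (Cfsg.Agent.Spor.Cos.Fi23.num y)) 1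
      (cond ([(0, 1), (1, 2), (2, 3), (3, 4), (3, 8), (4, 5), (5, 6), (6, 7), (8, 9)].any fun e =>
        (Nat.beq e.1 (Cfsg.Agent.Spor.Cos.Fi23.num x) && Nat.beq e.2 (Cfsg.Agent.Spor.Cos.Fi23.num y)) ||
        (Nat.beq e.1 (Cfsg.Agent.Spor.Cos.Fi23.num y) && Nat.beq e.2 (Cfsg.Agent.Spor.Cos.Fi23.num x))) 3 2) := by
  intro x y
  cases x <;> cases y <;> rfl

variable {G : Type*} [Group G] [Finite G] {D : Set G}

/-- The isomorphism. -/
theorem exists_iso (B : M23.Base D) (hne : D.Nonempty) :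
    ∃ e : Spor.Fi23 ≃* G, e '' conjugatesOf (Cfsg.Agent.Spor.Cos.Fi23.g 0) = D := by
  classical
  haveI := Cfsg.Agent.Spor.Cos.Fi22.finite
  haveI : Fact (Nat.Prime 13) := ⟨by norm_num⟩
  have h := B.set.cls
  have htf := B.set.tf
  obtain ⟨x, hx⟩ := hne
  obtain ⟨y, hy, hxy⟩ := B.apart_ne x hx
  obtain ⟨e₀, he₀⟩ := Fus.M22U.exists_iso (B.ctx x hx)
  rw [← tz_eq] at he₀
  have hxC : x ∈ Subgroup.centralizer ({x} : Set G) := Subgroup.mem_centralizer_singleton_iff.2 rfl
  -- an element of order thirteen fixing both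
  let A := Subgroup.centralizer ({x} : Set G) ⊓ Subgroup.centralizer ({y} : Set G)
  have hn : D.ncard = 31671 := M23.total B ⟨x, hx⟩ (M23.counts B)
  have h13 : 13 ∣ Nat.card ↥A := by
    letI : MulAction ↥(Subgroup.centralizer ({x} : Set G)) G :=
      MulAction.compHom G ((ConjAct.toConjAct (G := G)).toMonoidHom.comp (Subgroup.subtype _))
    have hsm : ∀ (c : ↥(Subgroup.centralizer ({x} : Set G))) (u : G), c • u = (c : G) * u * (c : G)⁻¹ :=
      fun c u => rfl
    have horb : MulAction.orbit ↥(Subgroup.centralizer ({x} : Set G)) y = D \ insert x (perp D x) := by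
      ext u
      constructor
      · rintro ⟨c, rfl⟩
        show c • y ∈ _
        rw [hsm]
        refine ⟨conj_mem h _ hy, ?_⟩
        have hc : Commute (c : G) x := Subgroup.mem_centralizer_singleton_iff.1 c.2
        have hnc : ¬ Commute x ((c : G) * y * (c : G)⁻¹) := fun k => hxy (by
          have := (commute_conj_iff (c : G) x y).1
          rw [conj_self_eq hc] at this
          exact this k)
        rintro (k | k)
        · exact hnc (by rw [k])
        · exact hnc k.2.2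
      · rintro ⟨hu, hu'⟩
        have hxu : ¬ Commute x u := fun k => hu' (by
          by_cases e : u = x
          · exact Or.inl e
          · exact Or.inr ⟨hu, e, k⟩)
        obtain ⟨c, hcx, hcy⟩ := apart_pair_conj B.set hx hy hxy hx hu hxu
        exact ⟨⟨c, Subgroup.mem_centralizer_singleton_iff.2 (mul_inv_eq_iff_eq_mul.1 hcx)⟩, hcy⟩
    have hcard : (MulAction.orbit ↥(Subgroup.centralizer ({x} : Set G)) y).ncard = 28160 := by
      rw [horb, Set.ncard_sdiff (by
        rintro u (rfl | hu)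
        exacts [hx, hu.1]) (Set.toFinite _), hn, Set.ncard_insert_of_notMem (fun k => k.2.1 rfl) (Set.toFinite _),
        M23.card_perp B hx (M23.counts B x hx)]
    have hst := Subgroup.index_mul_card (MulAction.stabilizer ↥(Subgroup.centralizer ({x} : Set G)) y)
    have hcC : Nat.card ↥(Subgroup.centralizer ({x} : Set G)) = 2 * 64561751654400 := by
      rw [M23.centralizer_eq B hx, M23.card_perpGroup B hx]
    rw [MulAction.index_stabilizer, hcard, hcC] at hst
    have hA : Nat.card ↥(MulAction.stabilizer ↥(Subgroup.centralizer ({x} : Set G)) y) = Nat.card ↥A :=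
      Nat.card_congr
        { toFun := fun c => ⟨(c : ↥(Subgroup.centralizer ({x} : Set G))), (c : ↥(Subgroup.centralizer ({x} : Set G))).2,
            Subgroup.mem_centralizer_singleton_iff.2 (mul_inv_eq_iff_eq_mul.1 ((hsm _ y).symm.trans c.2))⟩
          invFun := fun c => ⟨⟨c, c.2.1⟩, (hsm _ y).trans (conj_self_eq (Subgroup.mem_centralizer_singleton_iff.1 c.2.2))⟩
          left_inv := fun c => rfl
          right_inv := fun c => rfl }
    rw [hA] at hst
    omega
  obtain ⟨c₁, hc₁⟩ := exists_prime_orderOf_dvd_card' 13 h13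
  obtain ⟨c, hc⟩ : ∃ c : G, c = c₁ := ⟨_, rfl⟩
  have hcord : orderOf c = 13 := by rw [hc, Subgroup.orderOf_coe, hc₁]
  have hcx : Commute c x := hc ▸ Subgroup.mem_centralizer_singleton_iff.1 c₁.2.1
  have hcy : Commute c y := hc ▸ Subgroup.mem_centralizer_singleton_iff.1 c₁.2.2
  have hcP : c ∈ PerpGroup D x := by
    rw [← M23.centralizer_eq B hx]; exact hc ▸ c₁.2.1
  obtain ⟨cb, hcb⟩ : ∃ cb : PerpQuot D x, cb = QuotientGroup.mk (⟨c, hcP⟩ : ↥(PerpGroup D x)) := ⟨_, rfl⟩
  have hcb13 : orderOf cb = 13 := by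
    refine orderOf_eq_prime ?_ ?_
    · have e : (⟨c, hcP⟩ : ↥(PerpGroup D x)) ^ 13 = 1 :=
        Subtype.ext (show c ^ 13 = 1 from hcord ▸ pow_orderOf_eq_one c)
      rw [hcb, ← QuotientGroup.mk_pow, e, QuotientGroup.mk_one]
    · intro k
      rw [hcb, QuotientGroup.eq_one_iff, M23.centre B hx, Subgroup.mem_subgroupOf] at k
      obtain ⟨n, hn'⟩ := Subgroup.mem_zpowers_iff.1 k
      have e2 : c ^ 2 = 1 := by
        rw [show c = x ^ n from hn'.symm, ← zpow_natCast, ← zpow_mul, mul_comm, zpow_mul, zpow_natCast, pow_two,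
          mul_self h.1 hx, one_zpow]
      have := orderOf_dvd_of_pow_eq_one e2
      rw [hcord] at this
      norm_num at this
  -- move the model so that the standard element is a power of it
  obtain ⟨r, hr⟩ := (Fus.M22U.Thirteen.thirteen (MulEquiv.refl Spor.Fi22)).1
    (Subgroup.zpowers x13) (Subgroup.zpowers (e₀.symm cb)) (by rw [Nat.card_zpowers, orderOf_x13])
    (by rw [Nat.card_zpowers, e₀.symm.orderOf_eq, hcb13])
  obtain ⟨e, he⟩ : ∃ e : Spor.Fi22 ≃* PerpQuot D x, e = (MulAut.conj r).trans e₀ := ⟨_, rfl⟩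
  have hE : ∀ z, z ∈ conjugatesOf tz ↔ e z ∈ perpSet D x := by
    intro z
    rw [he, MulEquiv.trans_apply, ← he₀, e₀.injective.mem_set_image, MulAut.conj_apply]
    exact ⟨fun k => _root_.IsConj.trans k (_root_.isConj_iff.2 ⟨r, rfl⟩),
      fun k => _root_.IsConj.trans k (_root_.isConj_iff.2 ⟨r⁻¹, by group⟩)⟩
  obtain ⟨n, hn'⟩ : ∃ n : ℤ, e x13 = cb ^ n := by
    have : MulAut.conj r x13 ∈ Subgroup.zpowers (e₀.symm cb) := by
      rw [← hr]; exact ⟨x13, Subgroup.mem_zpowers _, rfl⟩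
    obtain ⟨n, hn'⟩ := Subgroup.mem_zpowers_iff.1 this
    exact ⟨n, by rw [he, MulEquiv.trans_apply, ← hn', map_zpow, e₀.apply_symm_apply]⟩
  -- the members over the points
  have hlift : ∀ p, ∃ (u : G) (hu : u ∈ perp D x), pr D x u hu = e (tp p) := fun p =>
    exists_of_mem ((hE _).1 (tp_mem p))
  choose ψ hψ hψe using hlift
  have hψc : ∀ {p q}, Commute (ψ p) (ψ q) ↔ Commute (tp p) (tp q) := by
    intro p q
    constructor
    · intro k
      have := commute_pr (hψ p) (hψ q) k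
      rw [hψe, hψe] at this
      simpa using this.map e.symm.toMonoidHom
    · intro k
      refine commute_of_pr h htf hx (hψ p) (hψ q) ?_
      rw [hψe, hψe]
      exact k.map e.toMonoidHom
  have hψinj : ∀ {p q}, ψ p = ψ q → p = q := by
    intro p q k
    refine tp_injective (e.injective ?_)
    rw [← hψe, ← hψe]
    simp [k]
  let W : Set (Fin actB.N) := {p | ψ p ∈ common D x y}
  have hWne : W.Nonempty := by
    obtain ⟨u, hu⟩ := B.meets x hx y hy hxy
    obtain ⟨z, hz, ez⟩ : ∃ z, z ∈ conjugatesOf tz ∧ e z = pr D x u hu.1 :=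
      ⟨e.symm (pr D x u hu.1), (hE _).2 (by rw [e.apply_symm_apply]; exact pr_mem hu.1), e.apply_symm_apply _⟩
    obtain ⟨p, rfl⟩ := exists_tp hz
    refine ⟨p, show ψ p ∈ common D x y from ?_⟩
    rw [pr_injective h htf hx (hψ p) hu.1 ((hψe p).trans ez)]
    exact hu
  have hmove : ∀ (k : G) (hk : k ∈ PerpGroup D x) (z : Spor.Fi22),
      e z = QuotientGroup.mk (⟨k, hk⟩ : ↥(PerpGroup D x)) →
      ∀ p, ψ (piB z p) = k * ψ p * k⁻¹ := by
    intro k hk z ez p
    have hkx : Commute k x := Subgroup.mem_centralizer_singleton_iff.1 (M23.centralizer_eq B hx ▸ hk)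
    refine pr_injective h htf hx (hψ _) (perp_conj' h hkx (hψ p)) ?_
    rw [hψe, ← tp_equivariant (y := z) (p := p) rfl, map_mul, map_mul, map_inv, ez, ← hψe]
    exact rfl
  have hWclosed : ∀ p ∈ W, ∀ q ∈ W, piB (tp p) q ∈ W := by
    intro p hp q hq
    show ψ (piB (tp p) q) ∈ common D x y
    rw [hmove (ψ p) (Subgroup.subset_closure (hψ p)) _ (hψe p).symm]
    exact conj_common B.set hx hy hxy hp.1.2.2.symm hp.2.2.2.symm hq
  have hWinv : ∀ p ∈ W, piB x13 p ∈ W := by
    intro p hp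
    have ez : e x13 = QuotientGroup.mk (⟨c ^ n, Subgroup.zpow_mem _ hcP n⟩ : ↥(PerpGroup D x)) := by
      rw [hn', hcb, ← QuotientGroup.mk_zpow]
      rfl
    show ψ (piB x13 p) ∈ common D x y
    rw [hmove _ _ _ ez]
    exact conj_common B.set hx hy hxy (hcx.zpow_left n) (hcy.zpow_left n) hp
  have hWdeg : ∀ p ∈ W, 126 ≤ {q | q ∈ W ∧ piB (tp p) q = q}.ncard := by
    intro p hp
    rw [← M23.card_T B (M23.counts B) hx hy hxy (x := ψ p) hp]
    refine le_trans (Set.ncard_le_ncard ?_) (Set.ncard_image_le (f := ψ) (Set.toFinite _))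
    rintro u ⟨hu, hup⟩
    obtain ⟨z, hz, ez⟩ : ∃ z, z ∈ conjugatesOf tz ∧ e z = pr D x u hu.1 :=
      ⟨e.symm (pr D x u hu.1), (hE _).2 (by rw [e.apply_symm_apply]; exact pr_mem hu.1), e.apply_symm_apply _⟩
    obtain ⟨q, rfl⟩ := exists_tp hz
    have eu := pr_injective h htf hx (hψ q) hu.1 ((hψe q).trans ez)
    refine ⟨q, ⟨show ψ q ∈ common D x y from eu.symm ▸ hu, fixed_iff.2 (hψc.1 ?_)⟩, eu⟩
    rw [eu]
    exact hup.2.2
  obtain ⟨k, hk3, hkW⟩ := three_cases W hWne hWclosed hWinv hWdeg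
  -- the nine members
  let u : ℕ → G := fun i => if hi : i < 9 then ψ ⟨cp k i, cp_lt k hi⟩ else x
  have hu : ∀ {i} (hi : i < 9), ∃ hm : u i ∈ perp D x, pr D x (u i) hm = e (conf k i) := by
    intro i hi
    simp only [u, dif_pos hi]
    exact ⟨hψ _, by rw [hψe, tp_cp k hi]⟩
  have hgen : ∀ (K : Subgroup G), (∀ i < 9, u i ∈ K) → x ∈ K := by
    intro K hK
    have htop : (K.subgroupOf (PerpGroup D x)) ⊔ Subgroup.center ↥(PerpGroup D x) = ⊤ := by
      rw [eq_top_iff]
      intro z _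
      have hle : (⊤ : Subgroup Spor.Fi22) ≤ ((K.subgroupOf (PerpGroup D x)).map
          (QuotientGroup.mk' (Subgroup.center ↥(PerpGroup D x)))).comap e.toMonoidHom := by
        rw [← closure_conf k, Subgroup.closure_le]
        rintro _ ⟨i, hi, rfl⟩
        obtain ⟨hm, ei⟩ := hu hi
        exact ⟨⟨u i, Subgroup.subset_closure hm⟩, hK i hi, ei⟩
      obtain ⟨w, hw', ew⟩ := hle (Subgroup.mem_top (e.symm (QuotientGroup.mk z)))
      simp only [MulEquiv.coe_toMonoidHom, e.apply_symm_apply, QuotientGroup.mk'_apply] at ew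
      have hd : w⁻¹ * z ∈ Subgroup.center ↥(PerpGroup D x) := QuotientGroup.eq.1 ew
      have := Subgroup.mul_mem_sup (show w ∈ K.subgroupOf (PerpGroup D x) from hw') hd
      rwa [mul_inv_cancel_left] at this
    have hcomm : commutator ↥(PerpGroup D x) ≤ K.subgroupOf (PerpGroup D x) := by
      rw [commutator_def, Subgroup.commutator_le]
      intro p _ q _
      obtain ⟨p₁, hp₁, p₂, hp₂, rfl⟩ := Subgroup.mem_sup_of_normal_right.1 (htop.ge (Subgroup.mem_top p))
      obtain ⟨q₁, hq₁, q₂, hq₂, rfl⟩ := Subgroup.mem_sup_of_normal_right.1 (htop.ge (Subgroup.mem_top q))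
      have c₁ := Subgroup.mem_center_iff.1 hp₂
      have c₂ := Subgroup.mem_center_iff.1 hq₂
      have e' : ⁅p₁ * p₂, q₁ * q₂⁆ = p₁ * q₁ * p₁⁻¹ * q₁⁻¹ := by
        rw [commutatorElement_def, mul_inv_rev, mul_inv_rev]
        calc p₁ * p₂ * (q₁ * q₂) * (p₂⁻¹ * p₁⁻¹) * (q₂⁻¹ * q₁⁻¹)
            = p₁ * (p₂ * (q₁ * q₂)) * p₂⁻¹ * p₁⁻¹ * q₂⁻¹ * q₁⁻¹ := by simp [mul_assoc]
          _ = p₁ * q₁ * (q₂ * p₁⁻¹) * q₂⁻¹ * q₁⁻¹ := by rw [← c₁ (q₁ * q₂)]; simp [mul_assoc]
          _ = p₁ * q₁ * p₁⁻¹ * q₁⁻¹ := by rw [← c₂ p₁⁻¹]; simp [mul_assoc]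
      rw [e']
      exact mul_mem (mul_mem (mul_mem hp₁ hq₁) (inv_mem hp₁)) (inv_mem hq₁)
    have hperf : commutator ↥(PerpGroup D x) = ⊤ := Group.isPerfect_def.1 (M23.quasisimple B hx).1
    exact hcomm (hperf.ge (Subgroup.mem_top (⟨x, M23.self B hx⟩ : ↥(PerpGroup D x))))
  have hWu : ∀ i < 9, (i ≠ 6 ∨ k = 2) → u i ∈ common D x y := by
    intro i hi hw'
    obtain ⟨_, hm⟩ := hkW i hi hw'
    simp only [u, dif_pos hi]
    exact hm
  have h6 : ¬ Commute y (u 6) := by
    intro k6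
    have := hgen (Subgroup.centralizer ({y} : Set G)) fun i hi => by
      by_cases e6 : i = 6
      · subst e6; exact Subgroup.mem_centralizer_singleton_iff.2 k6.symm.eq
      · exact Subgroup.mem_centralizer_singleton_iff.2 (hWu i hi (Or.inl e6)).2.2.2.symm.eq
    exact hxy (Subgroup.mem_centralizer_singleton_iff.1 this)
  have hk2 : k < 2 := by
    rcases Nat.lt_or_ge k 2 with h2 | h2
    · exact h2
    · exact absurd (hWu 6 (by norm_num) (Or.inr (by omega))).2.2.2 h6
  -- the ten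
  let T : ℕ → ℕ := fun s => if s < 7 then s else s - 1
  let f' : ℕ → G := fun s => if s = 7 then y else u (T s)
  let f : Spor.Fi23.Gen → G := fun a => f' (Cfsg.Agent.Spor.Cos.Fi23.num a)
  have hn10 : ∀ a, Cfsg.Agent.Spor.Cos.Fi23.num a < 10 := fun a => by cases a <;> decide
  have hTlt : ∀ s < 10, s ≠ 7 → T s < 9 := fun s hs h7 => by simp only [T]; split <;> omega
  have hf'D : ∀ s < 10, f' s ∈ D := by
    intro s hs
    by_cases h7 : s = 7
    · simp [f', h7, hy]
    · simp only [f', if_neg h7]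
      exact (hu (hTlt s hs h7)).1.1
  have hucomm : ∀ {i j}, i < 9 → j < 9 → (Commute (u i) (u j) ↔ edgeOf i j = false) ∧ (u i = u j → i = j) := by
    intro i j hi hj
    obtain ⟨r1, r2⟩ := conf_rel hk2 hi hj
    simp only [u, dif_pos hi, dif_pos hj]
    refine ⟨?_, fun e' => r2 ?_⟩
    · rw [hψc, tp_cp k hi, tp_cp k hj, r1]
    · rw [← tp_cp k hi, ← tp_cp k hj, hψinj e']
  have hrel : ∀ r ∈ Spor.coxRelators Spor.Fi23.edges ∪ {r | r ∈ Spor.Fi23.extra}, FreeGroup.lift f r = 1 := by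
    rintro r (⟨a, -, b, -, rfl⟩ | hr)
    · rw [map_pow, map_mul, FreeGroup.lift_apply_of, FreeGroup.lift_apply_of, label]
      show (f' _ * f' _) ^ _ = (1 : G)
      have ha := hn10 a
      have hb := hn10 b
      generalize Cfsg.Agent.Spor.Cos.Fi23.num a = s at ha ⊢
      generalize Cfsg.Agent.Spor.Cos.Fi23.num b = t at hb ⊢
      have hs := hf'D s ha
      have ht := hf'D t hb
      by_cases hst : s = t
      · subst hst
        rw [Nat.beq_refl]
        simp [mul_self h.1 hs]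
      rw [show Nat.beq s t = false from Bool.eq_false_iff.2 fun k => hst (Nat.eq_of_beq_eq_true k), cond_false]
      have hiff : Commute (f' s) (f' t) ↔
          ([(0, 1), (1, 2), (2, 3), (3, 4), (3, 8), (4, 5), (5, 6), (6, 7), (8, 9)].any fun e =>
            (Nat.beq e.1 s && Nat.beq e.2 t) || (Nat.beq e.1 t && Nat.beq e.2 s)) = false := by
        have hy6 : ∀ i < 9, (Commute (u i) y ↔ i ≠ 6) := fun i hi =>
          ⟨fun k' e6 => h6 (e6 ▸ k'.symm), fun k' => (hWu i hi (Or.inl k')).2.2.2.symm⟩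
        by_cases s7 : s = 7
        · subst s7
          have t7 : t ≠ 7 := Ne.symm hst
          simp only [f', if_pos, if_neg t7]
          rw [show Commute y (u (T t)) ↔ Commute (u (T t)) y from ⟨fun k => k.symm, fun k => k.symm⟩,
            hy6 _ (hTlt t hb t7)]
          interval_cases t <;> first | omega | decide | simp [T]
        · by_cases t7 : t = 7
          · subst t7
            simp only [f', if_pos, if_neg s7]
            rw [hy6 _ (hTlt s ha s7)]
            interval_cases s <;> first | omega | decide | simp [T]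
          · simp only [f', if_neg s7, if_neg t7]
            rw [(hucomm (hTlt s ha s7) (hTlt t hb t7)).1]
            interval_cases s <;> interval_cases t <;> first | omega | decide | simp [T, edgeOf]
      cases he' : ([(0, 1), (1, 2), (2, 3), (3, 4), (3, 8), (4, 5), (5, 6), (6, 7), (8, 9)].any fun e =>
            (Nat.beq e.1 s && Nat.beq e.2 t) || (Nat.beq e.1 t && Nat.beq e.2 s))
      · have k' := hiff.2 he'
        rw [cond_false, k'.mul_pow, pow_two, pow_two, mul_self h.1 hs, mul_self h.1 ht, mul_one]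
      · rw [cond_true]
        rcases h.1.2 _ hs _ ht with k' | k'
        · have hc' : Commute (f' s) (f' t) := commute_of_sq h hs ht k'
          rw [hiff.1 hc'] at he'
          exact absurd he' Bool.false_ne_true
        · exact k'
    · have ext0 : ∀ (w : List ℕ) (p : ℕ), (∀ i ∈ w, i < 9 ∧ i ≠ 6) → ev (conf k) w ^ p = 1 → ev u w ^ p = 1 := by
        intro w p hw' hc'
        have key : ∀ w : List ℕ, (∀ i ∈ w, i < 9 ∧ i ≠ 6) → ∃ hm : ev u w ∈ PerpGroup D x,
            Commute (ev u w) y ∧ e (ev (conf k) w) = QuotientGroup.mk (⟨ev u w, hm⟩ : ↥(PerpGroup D x)) := by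
          intro w
          induction w with
          | nil => exact fun _ => ⟨one_mem _, Commute.one_left y, map_one e⟩
          | cons i w ih =>
            intro hw'
            obtain ⟨hm, hcy', eq'⟩ := ih fun j hj => hw' j (List.mem_cons_of_mem _ hj)
            obtain ⟨hi, hi6⟩ := hw' i List.mem_cons_self
            obtain ⟨hmi, ei⟩ := hu hi
            refine ⟨mul_mem (Subgroup.subset_closure hmi) hm, (hWu i hi (Or.inl hi6)).2.2.2.symm.mul_left hcy', ?_⟩
            show e (conf k i * ev (conf k) w) = _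
            rw [map_mul, eq', ← ei]
            rfl
        obtain ⟨hm, hcy', eq'⟩ := key w hw'
        have e1 : QuotientGroup.mk ((⟨ev u w, hm⟩ : ↥(PerpGroup D x)) ^ p) = (1 : PerpQuot D x) := by
          rw [QuotientGroup.mk_pow, ← eq', ← map_pow, hc', map_one]
        rw [QuotientGroup.eq_one_iff, M23.centre B hx, Subgroup.mem_subgroupOf] at e1
        obtain ⟨n, hn2⟩ := Subgroup.mem_zpowers_iff.1 e1
        have hx2 : x ^ (2 : ℤ) = 1 := by rw [zpow_two, mul_self h.1 hx]
        rcases Int.even_or_odd' n with ⟨m, rfl | rfl⟩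
        · rw [zpow_mul, hx2, one_zpow] at hn2
          exact hn2.symm
        · rw [zpow_add, zpow_mul, hx2, one_zpow, one_mul, zpow_one] at hn2
          refine absurd ?_ hxy
          rw [hn2]
          exact hcy'.pow_left p
      obtain ⟨rA, rS⟩ := relators k
      have eA := ext0 _ 9 (by decide) rA
      have eS := ext0 _ 10 (by decide) rS
      simp only [Spor.Fi23.extra, Set.mem_setOf_eq, List.mem_cons, List.not_mem_nil, or_false] at hr
      rcases hr with rfl | rfl
      · simpa [f, f', T, Cfsg.Agent.Spor.Cos.Fi23.num, ev, mul_assoc] using eS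
      · simpa [f, f', T, Cfsg.Agent.Spor.Cos.Fi23.num, ev, mul_assoc] using eA
  let φ : Spor.Fi23 →* G := PresentedGroup.toGroup hrel
  haveI := Cfsg.Agent.Spor.Cos.Fi23.isSimple
  haveI := Cfsg.Agent.Spor.Cos.Fi23.finite
  have h0D : u 0 ∈ D := (hu (by norm_num : 0 < 9)).1.1
  have hφ0 : φ (Cfsg.Agent.Spor.Cos.Fi23.g 0) = u 0 := by
    rw [show Cfsg.Agent.Spor.Cos.Fi23.g 0 = PresentedGroup.of Spor.Fi23.Gen.a from
      Cfsg.Agent.Spor.Cos.Fi23.pres.gen_idx Spor.Fi23.Gen.a]
    exact (PresentedGroup.toGroup.of hrel).trans (by simp [f, f', T, Cfsg.Agent.Spor.Cos.Fi23.num])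
  have hinj : Function.Injective φ := by
    refine (MonoidHom.ker_eq_bot_iff φ).1
      ((IsSimpleGroup.eq_bot_or_eq_top_of_normal φ.ker inferInstance).resolve_right fun ht => ?_)
    have h1 : φ (Cfsg.Agent.Spor.Cos.Fi23.g 0) = 1 := MonoidHom.mem_ker.1 (ht ▸ Subgroup.mem_top _)
    have h2 := h.1.1 _ h0D
    rw [← hφ0, h1, orderOf_one] at h2
    norm_num at h2
  have hcard : Nat.card Spor.Fi23 = Nat.card G := by
    rw [Cfsg.Agent.Spor.Cos.Fi23.card_eq, M23.card_group B ⟨x, hx⟩]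
  have hbij : Function.Bijective φ := by
    haveI := Fintype.ofFinite Spor.Fi23
    haveI := Fintype.ofFinite G
    exact (Fintype.bijective_iff_injective_and_card φ).2
      ⟨hinj, by simpa [Nat.card_eq_fintype_card] using hcard⟩
  refine ⟨MulEquiv.ofBijective φ hbij, ?_⟩
  ext z
  constructor
  · rintro ⟨w, hw', rfl⟩
    obtain ⟨d, rfl⟩ := _root_.isConj_iff.1 (show _root_.IsConj (Cfsg.Agent.Spor.Cos.Fi23.g 0) w from hw')
    show φ (d * Cfsg.Agent.Spor.Cos.Fi23.g 0 * d⁻¹) ∈ D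
    rw [map_mul, map_mul, hφ0, map_inv]
    exact conj_mem h _ h0D
  · intro hz
    obtain ⟨d, hd⟩ := transitive h h0D hz
    obtain ⟨d', hd'⟩ := hbij.2 d
    refine ⟨d' * Cfsg.Agent.Spor.Cos.Fi23.g 0 * d'⁻¹, _root_.isConj_iff.2 ⟨d', rfl⟩, ?_⟩
    show φ (d' * Cfsg.Agent.Spor.Cos.Fi23.g 0 * d'⁻¹) = z
    rw [map_mul, map_mul, hφ0, map_inv, hd', hd]

/-- The isomorphism, from the hypotheses of the statements. -/
theorem exists_model (hD : IsThreeTranspositionGroup D) (hprim : IsPrimitiveUnderConj D)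
    (h23 : IsOfTypeM23 G D) (hne : D.Nonempty) :
    ∃ e : Spor.Fi23 ≃* G, e '' conjugatesOf (Cfsg.Agent.Spor.Cos.Fi23.g 0) = D :=
  exists_iso (M23.base hD hprim h23) hne

end Cfsg.Agent.Fus.M23U
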